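import Groth.Agent.Lib.FundLocal.OfStalk
import Groth.Agent.Lib.ExtShStalk.Hom
import Groth.Agent.Lib.PushClosed.Unit
import Groth.Agent.Lib.Cyc.SheafLen
import Groth.Agent.Lib.Cyc.Dev.SchemeEquiv
import Groth.Agent.Lib.RefHull.Reflexive
import Groth.Agent.Lib.Conormal92.Affine

/-!
# Sections of `ℋom(ι_*O_X, G)` as elements killed by the ideal, and the reduction map `F_p → (ι^*F)_x`
-/

set_option autoImplicit false
set_option linter.style.haveILetI false
universe u

open CategoryTheory CategoryTheory.Limits AlgebraicGeometry Opposite TopologicalSpace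

noncomputable section

namespace Groth.Agent.Lib.FundLocal.Cocycle

open Groth.Agent.Lib Groth.Agent.Lib.Modules Groth.Agent.Lib.ExtShStalk ZarCoh.Exchange

variable {P X : Scheme.{u}} (ι : X ⟶ P)

/-- `ι_* O_X`. -/
abbrev M₀ : P.Modules := (Scheme.Modules.pushforward ι).obj (Coh.structureModule X)

/-- The unit section over an open. -/
def oneSec (U : P.Opens) : Γ(M₀ ι, U) := (1 : Γ(X, ι ⁻¹ᵁ U))

/-- The unit germ. -/
def one (p : P) : (M₀ ι).presheaf.stalk p := (M₀ ι).presheaf.germ ⊤ p trivial (oneSec ι ⊤)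

theorem one_eq (U : P.Opens) (p : P) (hp : p ∈ U) :
    one ι p = (M₀ ι).presheaf.germ U p hp (oneSec ι U) := by
  rw [one, ← TopCat.Presheaf.germ_res_apply (M₀ ι).presheaf (homOfLE (le_top : U ≤ ⊤)) p hp (oneSec ι ⊤)]
  exact congrArg _ (map_one (X.presheaf.map _).hom)

theorem one_generates [IsClosedImmersion ι] (p : P) (v : (M₀ ι).presheaf.stalk p) :
    ∃ a : P.presheaf.stalk p, v = a • one ι p := by
  by_cases hp : p ∈ Set.range ι.base
  · obtain ⟨x, rfl⟩ := hp
    obtain ⟨a, ha⟩ := ι.stalkMap_surjective x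
      (FreeStalk.unitStalkToRing x (DerivedOX.PullbackStalk.pushStalkMap ι x _ v))
    refine ⟨a, (PushClosed.Unit.bijective_pushStalkMap ι _ x).1 ?_⟩
    let φ : (Coh.structureModule X).presheaf.stalk x →ₗ[X.presheaf.stalk x] X.presheaf.stalk x :=
      { toFun := FreeStalk.unitStalkToRing x
        map_add' := map_add _
        map_smul' := FreeStalk.unitStalkToRing_smul x }
    have hφ : Function.Injective φ := by
      rw [injective_iff_map_eq_zero]
      intro v hv
      obtain ⟨U, hxU, s, rfl⟩ := TopCat.Presheaf.exists_germ_eq (Coh.structureModule X).presheaf v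
      change FreeStalk.unitStalkToRing x _ = 0 at hv
      rw [FreeStalk.unitStalkToRing_germ] at hv
      obtain ⟨W, hxW, iU, iU', hW⟩ := TopCat.Presheaf.germ_eq X.presheaf x hxU hxU s 0
        (hv.trans (map_zero _).symm)
      rw [← TopCat.Presheaf.germ_res_apply (Coh.structureModule X).presheaf iU x hxW s]
      exact (congrArg _ (hW.trans (map_zero _))).trans (map_zero _)
    refine hφ ?_
    refine Eq.trans ?_ (congrArg φ (DerivedOX.PullbackStalk.pushStalkMap_smul ι x _ a (one ι (ι.base x)))).symm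
    rw [_root_.map_smul, show DerivedOX.PullbackStalk.pushStalkMap ι x (Coh.structureModule X) (one ι (ι.base x)) =
      (Coh.structureModule X).presheaf.germ (ι ⁻¹ᵁ ⊤) x trivial (1 : Γ(X, ι ⁻¹ᵁ ⊤)) from
        DerivedOX.PullbackStalk.pushStalkMap_germ ι x _ _ _]
    show FreeStalk.unitStalkToRing x _ = (ι.stalkMap x).hom a * FreeStalk.unitStalkToRing x _
    rw [FreeStalk.unitStalkToRing_germ, map_one, mul_one]
    exact ha.symm
  · haveI := PushClosed.Unit.subsingleton_stalk_push ι (Coh.structureModule X) hp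
    exact ⟨0, Subsingleton.elim _ _⟩

theorem smul_one_eq_zero (x : X) [IsClosedImmersion ι] (a : P.presheaf.stalk (ι.base x))
    (ha : (ι.stalkMap x).hom a = 0) : a • one ι (ι.base x) = 0 :=
  (PushClosed.Unit.bijective_pushStalkMap ι _ x).1
    ((DerivedOX.PullbackStalk.pushStalkMap_smul ι x _ a _).trans (by
      rw [ha]; exact (zero_smul (X.presheaf.stalk x) _).trans (map_zero _).symm))

variable [ModSite.HasSheafHom (O := P.sheaf) (M₀ ι)]

/-- Evaluation at the unit. -/
def ev (G : P.Modules) (p : P) :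
    ((Hom.R (M₀ ι)).obj G).presheaf.stalk p →ₗ[P.presheaf.stalk p] G.presheaf.stalk p :=
  (LinearMap.applyₗ (one ι p)).comp (Hom.σ (M₀ ι) G p)

theorem ev_natural {G G' : P.Modules} (g : G ⟶ G') (p : P) (v : ((Hom.R (M₀ ι)).obj G).presheaf.stalk p) :
    ev ι G' p (StalkModule.stalkMapₗ ((Hom.R (M₀ ι)).map g) p v) =
      StalkModule.stalkMapₗ g p (ev ι G p v) :=
  LinearMap.congr_fun (Hom.σ_natural (M₀ ι) g p v) _

/-- Evaluation at the unit on sections. -/
def evSec (G : P.Modules) (U : P.Opens) (s : Γ((Hom.R (M₀ ι)).obj G, U)) : Γ(G, U) :=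
  TensorMod.Free.pairM (Hom.ε (M₀ ι) G) (oneSec ι U) s

theorem ev_germ (G : P.Modules) {U : P.Opens} {p : P} (hp : p ∈ U) (s : Γ((Hom.R (M₀ ι)).obj G, U)) :
    ev ι G p (((Hom.R (M₀ ι)).obj G).presheaf.germ U p hp s) = G.presheaf.germ U p hp (evSec ι G U s) := by
  show HomAdj.stalkPair (Hom.ε (M₀ ι) G) p _ (one ι p) = _
  rw [one_eq ι U p hp]
  exact ZarCoh.Exchange.HomAdj.stalkPair_germ (Hom.ε (M₀ ι) G) hp (oneSec ι U) s

section Noetherian

variable [IsClosedImmersion ι] [IsLocallyNoetherian P]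

omit [ModSite.HasSheafHom (O := P.sheaf) (M₀ ι)] in
theorem isCoh_M₀ : Coh.IsCoh (M₀ ι) :=
  haveI : IsLocallyNoetherian X := LocallyOfFiniteType.isLocallyNoetherian ι
  Cyc.Dev.SchemeEquiv.isCoh_push ι RefHull.Reflexive.isCoh_structure

theorem ev_injective (G : P.Modules) (p : P) : Function.Injective (ev ι G p) := by
  intro v w h
  refine (Hom.σ_bijective (M₀ ι) (isCoh_M₀ ι) G p).1 (LinearMap.ext fun m => ?_)
  obtain ⟨a, rfl⟩ := one_generates ι p m
  rw [_root_.map_smul, _root_.map_smul]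
  exact congrArg (a • ·) h

theorem subsingleton_off (G : P.Modules) {p : P} (hp : p ∉ Set.range ι.base) :
    Subsingleton (((Hom.R (M₀ ι)).obj G).presheaf.stalk p) := by
  haveI := PushClosed.Unit.subsingleton_stalk_push ι (Coh.structureModule X) hp
  refine ⟨fun v w => ev_injective ι G p ?_⟩
  show Hom.σ (M₀ ι) G p v (one ι p) = Hom.σ (M₀ ι) G p w (one ι p)
  rw [Subsingleton.elim (one ι p) 0, map_zero, map_zero]

omit [IsLocallyNoetherian P] in
theorem ev_killed (G : P.Modules) (x : X) (v : ((Hom.R (M₀ ι)).obj G).presheaf.stalk (ι.base x))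
    (a : P.presheaf.stalk (ι.base x)) (ha : (ι.stalkMap x).hom a = 0) : a • ev ι G (ι.base x) v = 0 := by
  show a • Hom.σ (M₀ ι) G _ v (one ι _) = 0
  rw [← _root_.map_smul, smul_one_eq_zero ι x a ha, map_zero]

theorem exists_of_killed (G : P.Modules) (x : X) (g : G.presheaf.stalk (ι.base x))
    (hg : ∀ a : P.presheaf.stalk (ι.base x), (ι.stalkMap x).hom a = 0 → a • g = 0) :
    ∃ v, ev ι G (ι.base x) v = g := by
  let R := P.presheaf.stalk (ι.base x)
  let π : R →ₗ[R] (M₀ ι).presheaf.stalk (ι.base x) := LinearMap.toSpanSingleton R _ (one ι _)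
  have hπ : Function.Surjective π := fun m => by
    obtain ⟨a, rfl⟩ := one_generates ι _ m
    exact ⟨a, rfl⟩
  have hker : LinearMap.ker π ≤ LinearMap.ker (LinearMap.toSpanSingleton R _ g) := fun a ha => by
    refine hg a ?_
    have h1 := congrArg (DerivedOX.PullbackStalk.pushStalkMap ι x (Coh.structureModule X))
      (LinearMap.mem_ker.1 ha)
    have h2 := (DerivedOX.PullbackStalk.pushStalkMap_smul ι x (Coh.structureModule X) a (one ι _)).symm.trans
      (h1.trans (map_zero _))
    rw [show DerivedOX.PullbackStalk.pushStalkMap ι x (Coh.structureModule X) (one ι (ι.base x)) =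
      (Coh.structureModule X).presheaf.germ (ι ⁻¹ᵁ ⊤) x trivial (1 : Γ(X, ι ⁻¹ᵁ ⊤)) from
        DerivedOX.PullbackStalk.pushStalkMap_germ ι x _ _ _] at h2
    have h3 := (FreeStalk.unitStalkToRing_smul x _ _).symm.trans
      ((congrArg (FreeStalk.unitStalkToRing x) h2).trans (map_zero _))
    rw [FreeStalk.unitStalkToRing_germ] at h3
    exact (mul_one _).symm.trans ((congrArg (_ * ·) (map_one (X.presheaf.germ _ x _).hom).symm).trans h3)
  obtain ⟨v, hv⟩ := (Hom.σ_bijective (M₀ ι) (isCoh_M₀ ι) G (ι.base x)).2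
    (((LinearMap.ker π).liftQ _ hker).comp (π.quotKerEquivOfSurjective hπ).symm.toLinearMap)
  refine ⟨v, ?_⟩
  show Hom.σ (M₀ ι) G _ v (one ι _) = g
  rw [hv, LinearMap.comp_apply, LinearEquiv.coe_toLinearMap,
    show one ι (ι.base x) = π.quotKerEquivOfSurjective hπ (Submodule.Quotient.mk 1) from
      (one_smul R _).symm,
    LinearEquiv.symm_apply_apply, Submodule.liftQ_apply, LinearMap.toSpanSingleton_apply, one_smul]

end Noetherian

section Reduction

/-- `F_p → (ι^*F)_x`. -/
def q (F : P.Modules) (x : X) :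
    F.presheaf.stalk (ι.base x) → ((Scheme.Modules.pullback ι).obj F).presheaf.stalk x :=
  fun a => DerivedOX.PullbackStalk.pushStalkMap ι x _
    (StalkModule.stalkMapₗ ((Scheme.Modules.pullbackPushforwardAdjunction ι).unit.app F) (ι.base x) a)

omit [ModSite.HasSheafHom (O := P.sheaf) (M₀ ι)] in
theorem q_add (F : P.Modules) (x : X) (a b : F.presheaf.stalk (ι.base x)) :
    q ι F x (a + b) = q ι F x a + q ι F x b :=
  (congrArg (DerivedOX.PullbackStalk.pushStalkMap ι x _) (map_add _ a b)).trans (map_add _ _ _)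

omit [ModSite.HasSheafHom (O := P.sheaf) (M₀ ι)] in
theorem q_smul (F : P.Modules) (x : X) (c : P.presheaf.stalk (ι.base x)) (a : F.presheaf.stalk (ι.base x)) :
    q ι F x (c • a) = (ι.stalkMap x).hom c • q ι F x a :=
  (congrArg (DerivedOX.PullbackStalk.pushStalkMap ι x _) (_root_.map_smul _ c a)).trans
    (DerivedOX.PullbackStalk.pushStalkMap_smul ι x _ c _)

omit [ModSite.HasSheafHom (O := P.sheaf) (M₀ ι)] in
theorem q_germ (F : P.Modules) {U : P.Opens} (x : X) (hx : ι.base x ∈ U) (m : Γ(F, U)) :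
    q ι F x (F.presheaf.germ U (ι.base x) hx m) =
      ((Scheme.Modules.pullback ι).obj F).presheaf.germ (ι ⁻¹ᵁ U) x hx
        (((Scheme.Modules.pullbackPushforwardAdjunction ι).unit.app F).app U m) :=
  (congrArg (DerivedOX.PullbackStalk.pushStalkMap ι x _) (StalkModule.stalkMapₗ_germ _ hx m)).trans
    (DerivedOX.PullbackStalk.pushStalkMap_germ ι x _ _ _)

variable [IsClosedImmersion ι]

omit [ModSite.HasSheafHom (O := P.sheaf) (M₀ ι)] in
theorem q_surjective (F : P.Modules) (x : X) : Function.Surjective (q ι F x) := fun b => by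
  obtain ⟨b', hb'⟩ := (PushClosed.Unit.bijective_pushStalkMap ι _ x).2 b
  obtain ⟨a, ha⟩ := (StalkModule.epi_iff_stalkMapₗ_surjective _).1 (PushClosed.Unit.epi_unit ι F) _ b'
  exact ⟨a, (congrArg _ ha).trans hb'⟩

omit [ModSite.HasSheafHom (O := P.sheaf) (M₀ ι)] in
theorem q_eq_zero_iff (F : P.Modules) (x : X) (a : F.presheaf.stalk (ι.base x)) :
    q ι F x a = 0 ↔
      a ∈ RingHom.ker (ι.stalkMap x).hom • (⊤ : Submodule (P.presheaf.stalk (ι.base x)) (F.presheaf.stalk (ι.base x))) := by
  letI : Algebra (P.presheaf.stalk (ι.base x)) (X.presheaf.stalk x) := (ι.stalkMap x).hom.toAlgebra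
  refine Iff.trans ?_ ((Conormal92.Affine.one_tmul_spec (A := P.presheaf.stalk (ι.base x)) (B := X.presheaf.stalk x)
    (M := F.presheaf.stalk (ι.base x)) (ι.stalkMap_surjective x)).2 a)
  haveI := DerivedOX.PullbackStalk.isIso_comparison ι x
  have h := (ConcreteCategory.bijective_of_isIso ((DerivedOX.PullbackStalk.comparison ι x).app F)).1
  constructor
  · intro ha
    exact h ((DerivedOX.PullbackStalk.comparison_one_tmul ι x F a).trans
      (ha.trans (map_zero ((DerivedOX.PullbackStalk.comparison ι x).app F).hom).symm))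
  · intro ha
    exact (DerivedOX.PullbackStalk.comparison_one_tmul ι x F a).symm.trans
      ((congrArg ((DerivedOX.PullbackStalk.comparison ι x).app F) ha).trans
        (map_zero ((DerivedOX.PullbackStalk.comparison ι x).app F).hom))

end Reduction

end Groth.Agent.Lib.FundLocal.Cocycle
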