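import Groth.Agent.Lib.FundLocal.Value
import Groth.Agent.Lib.StalkLoc.Basic
import Groth.Agent.Lib.ExtShStalk.Main
import Groth.Agent.Lib.QCoh.Localizing
import Mathlib.CategoryTheory.Abelian.Injective.Resolution

/-!
# Values of local cocycles killed by the ideal are locally given by sections
-/

set_option autoImplicit false
set_option linter.style.haveILetI false
universe u

open CategoryTheory CategoryTheory.Limits AlgebraicGeometry Opposite TopologicalSpace

noncomputable section

namespace Groth.Agent.Lib.FundLocal.Spread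

open Groth.Agent.Lib Groth.Agent.Lib.Modules Groth.Agent.Lib.FundLocal

variable {P : Scheme.{u}} {F : P.Modules} (I : InjectiveResolution F)

/-- The augmentation. -/
def ι₀ : F ⟶ I.cocomplex.X 0 := I.ι.f 0

/-- The augmentation on sections. -/
def ηSec (W : P.Opens) : Γ(F, W) →ₗ[Γ(P, W)] Γ(I.cocomplex.X 0, W) where
  toFun := (ι₀ I).app W
  map_add' := map_add _
  map_smul' := fun c m => Scheme.Modules.Hom.app_smul _ c m

/-- The differential on sections. -/
def dSec (W : P.Opens) (j : ℕ) : Γ(I.cocomplex.X j, W) →ₗ[Γ(P, W)] Γ(I.cocomplex.X (j + 1), W) where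
  toFun := (I.cocomplex.d j (j + 1)).app W
  map_add' := map_add _
  map_smul' := fun c m => Scheme.Modules.Hom.app_smul _ c m

/-- The augmentation on stalks. -/
def η (p : P) : F.presheaf.stalk p →ₗ[P.presheaf.stalk p] (I.cocomplex.X 0).presheaf.stalk p :=
  StalkModule.stalkMapₗ (ι₀ I) p

/-- The differential on stalks. -/
def d (p : P) (j : ℕ) :
    (I.cocomplex.X j).presheaf.stalk p →ₗ[P.presheaf.stalk p] (I.cocomplex.X (j + 1)).presheaf.stalk p :=
  StalkModule.stalkMapₗ (I.cocomplex.d j (j + 1)) p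

theorem exact₀ (p : P) : Function.Exact (η I p) (d I p 0) :=
  (ShortComplex.ShortExact.moduleCat_exact_iff_function_exact _).1
    (I.exact₀.map (StalkModule.stalkModFunctor P p))

theorem exact_succ (p : P) (j : ℕ) : Function.Exact (d I p j) (d I p (j + 1)) :=
  (ShortComplex.ShortExact.moduleCat_exact_iff_function_exact _).1
    ((I.exact_succ j).map (StalkModule.stalkModFunctor P p))

theorem η_injective (p : P) : Function.Injective (η I p) := by
  haveI : Mono (ι₀ I) := inferInstanceAs (Mono (I.ι.f 0))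
  exact (StalkModule.mono_iff_stalkMapₗ_injective (ι₀ I)).1 inferInstance p

variable {r : ℕ}

/-- The form with values `f`. -/
def form {R : Type u} [CommRing R] (f : Fin r → R) : Module.Dual R (Fin r → R) :=
  ∑ i, f i • LinearMap.proj i

theorem form_apply {R : Type u} [CommRing R] (f v : Fin r → R) : form f v = ∑ i, f i * v i := by
  simp [form]

theorem form_basis {R : Type u} [CommRing R] (f : Fin r → R) (i : Fin r) :
    form f (Pi.basisFun R (Fin r) i) = f i := by
  simp [form_apply, Pi.single_apply]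

theorem form_mapV {R R' : Type u} [CommRing R] [CommRing R'] [Algebra R R'] (f v : Fin r → R) :
    form (fun i => algebraMap R R' (f i)) (BaseChange.mapV R R' r v) = algebraMap R R' (form f v) := by
  simp [form_apply, BaseChange.mapV]

/-- The exterior powers of the free module. -/
abbrev Pw (R : Type u) [CommRing R] (r k : ℕ) : Type u := ↥(⋀[R]^k (Fin r → R))

/-- The basis of an exterior power. -/
abbrev bas (R : Type u) [CommRing R] (r k : ℕ) (s : Set.powersetCard (Fin r) k) : Pw R r k :=
  (Pi.basisFun R (Fin r)).exteriorPower k s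

open QCoh.Localizing

/-- Lifting finitely many sections near a point. -/
theorem exists_local_lift {A B : P.Modules} (u : A ⟶ B) {ι' : Type} [Fintype ι'] {W : P.Opens} {p : P}
    (hp : p ∈ W) (g : ι' → Γ(B, W))
    (hg : ∀ s, ∃ v, StalkModule.stalkMapₗ u p v = B.presheaf.germ W p hp (g s)) :
    ∃ (W' : P.Opens) (h : W' ≤ W) (_ : p ∈ W') (t : ι' → Γ(A, W')), ∀ s, u.app W' (t s) = res _ h (g s) := by
  have h1 : ∀ s, ∃ (V : P.Opens) (hV : V ≤ W) (_ : p ∈ V) (t : Γ(A, V)), u.app V t = res _ hV (g s) := by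
    intro s
    obtain ⟨v, hv⟩ := hg s
    obtain ⟨U, hpU, t, rfl⟩ := TopCat.Presheaf.exists_germ_eq A.presheaf v
    rw [StalkModule.stalkMapₗ_germ] at hv
    obtain ⟨V, hpV, iU, iW, e⟩ := TopCat.Presheaf.germ_eq B.presheaf p hpU hp _ _ hv
    refine ⟨V, iW.le, hpV, A.presheaf.map iU.op t, ?_⟩
    exact (ConcreteCategory.congr_hom ((u.mapPresheaf).naturality iU.op) t).trans e
  choose V hV hpV t ht using h1
  classical
  refine ⟨W ⊓ Finset.univ.inf V, inf_le_left, ⟨hp, ?_⟩,
    fun s => res _ ((inf_le_right : W ⊓ Finset.univ.inf V ≤ _).trans (Finset.inf_le (Finset.mem_univ s))) (t s),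
    fun s => ?_⟩
  · suffices H : ∀ S : Finset ι', p ∈ S.inf V from H _
    intro S
    induction S using Finset.induction_on with
    | empty => rw [Finset.inf_empty]; exact trivial
    | insert a S _ ih => rw [Finset.inf_insert]; exact ⟨hpV a, ih⟩
  · refine (ConcreteCategory.congr_hom ((u.mapPresheaf).naturality (homOfLE _).op) (t s)).trans ?_
    show B.presheaf.map _ (u.app (V s) (t s)) = _
    rw [ht]
    exact res_res _ _ _

/-- A linked cochain near a point. -/
theorem exists_spread : ∀ (j k : ℕ), j + k = r → ∀ (W : P.Opens) (p : P) (hp : p ∈ W)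
    (f : Fin r → Γ(P, W)) (g : Pw Γ(P, W) r k →ₗ[Γ(P, W)] Γ(I.cocomplex.X j, W)),
    (dSec I W j).comp g = 0 → (∀ x : Pw Γ(P, W) r (k + 1), g (KoszulSh.Algebra.d (form f) k x) = 0) →
    ∃ (W' : P.Opens) (h : W' ≤ W) (_ : p ∈ W') (g' : Pw Γ(P, W') r k →ₗ[Γ(P, W')] Γ(I.cocomplex.X j, W'))
      (a : ExteriorAlgebra Γ(P, W') (Fin r → Γ(P, W')) →ₗ[Γ(P, W')] Γ(F, W')),
      (∀ s, g' (bas Γ(P, W') r k s) = res _ h (g (bas Γ(P, W) r k s))) ∧
      Algebra.Linked (ηSec I W') (dSec I W') (form fun i => resR h (f i)) j k g' a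
  | 0, k, hk, W, p, hp, f, g, hg, _ => by
    obtain rfl : k = r := by omega
    obtain ⟨W', h, hp', t, ht⟩ := exists_local_lift (ι₀ I) (ι' := Set.powersetCard (Fin k) k) hp
      (fun s => g (bas Γ(P, W) k k s)) fun s => (exact₀ I p _).1 ((StalkModule.stalkMapₗ_germ _ hp _).trans
        ((congrArg _ (LinearMap.congr_fun hg _)).trans (map_zero _)))
    refine ⟨W', h, hp', ((Pi.basisFun Γ(P, W') (Fin k)).exteriorPower k).constr Γ(P, W')
        (fun s => res _ h (g (bas Γ(P, W) k k s))),
      (((Pi.basisFun Γ(P, W') (Fin k)).exteriorPower k).constr Γ(P, W') t).comp (Algebra.proj k),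
      fun s => Module.Basis.constr_basis _ _ _ _,
      ((Pi.basisFun Γ(P, W') (Fin k)).exteriorPower k).ext fun s => ?_⟩
    rw [Module.Basis.constr_basis]
    show ηSec I W' ((((Pi.basisFun Γ(P, W') (Fin k)).exteriorPower k).constr Γ(P, W') t)
      (Algebra.proj k (bas Γ(P, W') k k s : ExteriorAlgebra Γ(P, W') (Fin k → Γ(P, W'))))) = _
    rw [Algebra.proj_coe, Module.Basis.constr_basis]
    exact ht s
  | j + 1, k, hk, W, p, hp, f, g, hg, hgK => by
    obtain ⟨W₁, h₁, hp₁, t, ht⟩ := exists_local_lift (I.cocomplex.d j (j + 1))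
      (ι' := Set.powersetCard (Fin r) k) hp (fun s => g (bas Γ(P, W) r k s)) fun s =>
        (exact_succ I p j _).1 ((StalkModule.stalkMapₗ_germ _ hp _).trans
          ((congrArg _ (LinearMap.congr_fun hg _)).trans (map_zero _)))
    let f₁ : Fin r → Γ(P, W₁) := fun i => resR h₁ (f i)
    let h' : Pw Γ(P, W₁) r k →ₗ[Γ(P, W₁)] Γ(I.cocomplex.X j, W₁) :=
      ((Pi.basisFun Γ(P, W₁) (Fin r)).exteriorPower k).constr Γ(P, W₁) t
    letI := (resR h₁ : Γ(P, W) →+* Γ(P, W₁)).toAlgebra
    letI : Module Γ(P, W) Γ(I.cocomplex.X (j + 1), W₁) := Module.compHom _ (resR h₁)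
    haveI : IsScalarTower Γ(P, W) Γ(P, W₁) Γ(I.cocomplex.X (j + 1), W₁) :=
      IsScalarTower.of_algebraMap_smul fun _ _ => rfl
    let gres : Pw Γ(P, W) r k →ₗ[Γ(P, W)] Γ(I.cocomplex.X (j + 1), W₁) :=
      { toFun := fun x => res _ h₁ (g x)
        map_add' := fun a b => by rw [map_add, map_add]
        map_smul' := fun c x => by
          rw [_root_.map_smul]
          exact Scheme.Modules.map_smul _ _ c (g x) }
    have hh' : (dSec I W₁ j).comp h' = BaseChange.extend (R' := Γ(P, W₁)) gres :=
      ((Pi.basisFun Γ(P, W₁) (Fin r)).exteriorPower k).ext fun s => by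
        rw [LinearMap.comp_apply, Module.Basis.constr_basis, BaseChange.extend, Module.Basis.constr_basis]
        exact ht s
    have hK₁ : ∀ x : Pw Γ(P, W₁) r (k + 1), dSec I W₁ j (h' (KoszulSh.Algebra.d (form f₁) k x)) = 0 := by
      intro x
      show ((dSec I W₁ j).comp h').comp (KoszulSh.Algebra.d (form f₁) k) x = 0
      rw [show ((dSec I W₁ j).comp h').comp (KoszulSh.Algebra.d (form f₁) k) = 0 from
        BaseChange.ext_push (R := Γ(P, W)) fun y => by
          rw [LinearMap.comp_apply, hh', LinearMap.zero_apply,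
            BaseChange.push_K (form f) (form f₁) (form_mapV f)]
          refine (LinearMap.congr_fun (BaseChange.extend_push gres) _).trans ?_
          show res _ h₁ _ = 0
          rw [hgK, map_zero]]
      rfl
    obtain ⟨W₂, h₂, hp₂, g₂, a, hg₂, hl⟩ := exists_spread j (k + 1) (by omega) W₁ p hp₁ f₁
      (h'.comp (KoszulSh.Algebra.d (form f₁) k)) (LinearMap.ext hK₁) fun x => by
        rw [LinearMap.comp_apply, Algebra.K_K, map_zero]
    letI := (resR h₂ : Γ(P, W₁) →+* Γ(P, W₂)).toAlgebra
    letI : Module Γ(P, W₁) Γ(I.cocomplex.X j, W₂) := Module.compHom _ (resR h₂)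
    haveI : IsScalarTower Γ(P, W₁) Γ(P, W₂) Γ(I.cocomplex.X j, W₂) :=
      IsScalarTower.of_algebraMap_smul fun _ _ => rfl
    let hres : Pw Γ(P, W₁) r k →ₗ[Γ(P, W₁)] Γ(I.cocomplex.X j, W₂) :=
      { toFun := fun x => res _ h₂ (h' x)
        map_add' := fun a b => by rw [map_add, map_add]
        map_smul' := fun c x => by
          rw [_root_.map_smul]
          exact Scheme.Modules.map_smul _ _ c (h' x) }
    have hf₂ : (fun i => resR (h₂.trans h₁) (f i)) = fun i => algebraMap Γ(P, W₁) Γ(P, W₂) (f₁ i) :=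
      funext fun i => (resR_resR h₁ h₂ (f i)).symm
    have hg₂' : (BaseChange.extend (R' := Γ(P, W₂)) hres).comp
        (KoszulSh.Algebra.d (form fun i => resR (h₂.trans h₁) (f i)) k) = g₂ :=
      ((Pi.basisFun Γ(P, W₂) (Fin r)).exteriorPower (k + 1)).ext fun s => by
        rw [LinearMap.comp_apply, hf₂, hg₂]
        conv_lhs => rw [← BaseChange.push_basis Γ(P, W₁) Γ(P, W₂) r (k + 1) s,
          BaseChange.push_K (form f₁) _ (form_mapV f₁)]
        exact LinearMap.congr_fun (BaseChange.extend_push hres) _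
    refine ⟨W₂, h₂.trans h₁, hp₂, (dSec I W₂ j).comp (BaseChange.extend (R' := Γ(P, W₂)) hres), a,
      fun s => ?_, BaseChange.extend (R' := Γ(P, W₂)) hres, rfl, ?_⟩
    · rw [LinearMap.comp_apply, BaseChange.extend, Module.Basis.constr_basis]
      show (I.cocomplex.d j (j + 1)).app W₂ (res _ h₂ (h' (bas Γ(P, W₁) r k s))) = _
      rw [Module.Basis.constr_basis]
      refine (ConcreteCategory.congr_hom
        ((I.cocomplex.d j (j + 1)).mapPresheaf.naturality (homOfLE h₂).op) (t s)).trans ?_
      show res _ h₂ ((I.cocomplex.d j (j + 1)).app W₁ (t s)) = _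
      rw [ht]
      exact res_res _ _ _
    · rw [hg₂', hf₂]
      exact hl

/-- Near a point, a section killed by `f` which is a cocycle has a section as value. -/
theorem exists_val {W : P.Opens} {p : P} (hp : p ∈ W) (f : Fin r → Γ(P, W))
    (s : Γ(I.cocomplex.X r, W)) (hs : (I.cocomplex.d r (r + 1)).app W s = 0) (hf : ∀ i, f i • s = 0) :
    ∃ (W' : P.Opens) (h : W' ≤ W) (_ : p ∈ W') (m : Γ(F, W')), ∀ (q : P) (hq : q ∈ W'),
      Value.Val (η I q) (d I q) (form fun i => P.presheaf.germ W q (h hq) (f i))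
        ((I.cocomplex.X r).presheaf.germ W q (h hq) s) (F.presheaf.germ W' q hq m) := by
  obtain ⟨W', h, hp', g', a, hg', hl⟩ := exists_spread I r 0 (by omega) W p hp f
    (Value.init (R := Γ(P, W)) (C := fun j => Γ(I.cocomplex.X j, W)) (j := r) s)
    (LinearMap.ext fun x => by
      rw [LinearMap.comp_apply, Value.init_apply, _root_.map_smul, LinearMap.zero_apply,
        show dSec I W r s = 0 from hs, smul_zero])
    fun x => by
      refine Submodule.smul_induction_on (Algebra.K_mem (form f) 0 x) (fun c hc n _ => ?_) fun a b ha hb => ?_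
      · obtain ⟨v, rfl⟩ := hc
        rw [_root_.map_smul, Value.init_apply, smul_comm, form_apply, Finset.sum_smul,
          Finset.sum_eq_zero fun i _ => by rw [mul_comm, mul_smul, hf, smul_zero], smul_zero]
      · rw [map_add, ha, hb, add_zero]
  refine ⟨W', h, hp', a (Algebra.ω : Pw Γ(P, W') r r), fun q hq => ?_⟩
  have hbas : ∀ (R : Type u) [CommRing R] (s : Set.powersetCard (Fin r) 0),
      bas R r 0 s = exteriorPower.ιMulti R 0 fun i => i.elim0 := fun R _ s => by
    show (Pi.basisFun R (Fin r)).exteriorPower 0 s = _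
    rw [exteriorPower.basis_apply, exteriorPower.ιMulti_family]
    exact congrArg _ (funext fun i => i.elim0)
  have hinit : g' = Value.init (R := Γ(P, W')) (C := fun j => Γ(I.cocomplex.X j, W')) (j := r)
      (res (I.cocomplex.X r) h s) :=
    ((Pi.basisFun Γ(P, W') (Fin r)).exteriorPower 0).ext fun t => by
      refine (hg' t).trans ((congrArg (fun z => res (I.cocomplex.X r) h
        (Value.init (R := Γ(P, W)) (C := fun j => Γ(I.cocomplex.X j, W)) (j := r) s z)) (hbas Γ(P, W) t)).trans
          ((congrArg (res (I.cocomplex.X r) h)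
            (Value.init_one (R := Γ(P, W)) (C := fun j => Γ(I.cocomplex.X j, W)) (j := r) s)).trans ?_))
      refine Eq.trans (Value.init_one (R := Γ(P, W')) (r := r) (C := fun j => Γ(I.cocomplex.X j, W')) (j := r) _).symm ?_
      exact congrArg _ (hbas Γ(P, W') t).symm
  rw [hinit] at hl
  letI := TopCat.Presheaf.algebra_section_stalk P.presheaf (⟨q, hq⟩ : W')
  letI := StalkLoc.Basic.moduleSections F hq
  letI : ∀ j, Module Γ(P, W') ((I.cocomplex.X j).presheaf.stalk q) := fun j =>
    StalkLoc.Basic.moduleSections (I.cocomplex.X j) hq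
  haveI := StalkLoc.Basic.isScalarTower_sections F hq
  haveI : ∀ j, IsScalarTower Γ(P, W') (P.presheaf.stalk q) ((I.cocomplex.X j).presheaf.stalk q) :=
    fun j => StalkLoc.Basic.isScalarTower_sections (I.cocomplex.X j) hq
  have key := Value.val_baseChange (η' := η I q) (d' := d I q)
    (φ' := form fun i => P.presheaf.germ W' q hq (resR h (f i)))
    (StalkLoc.Basic.germₗ F hq) (fun j => StalkLoc.Basic.germₗ (I.cocomplex.X j) hq)
    (fun m => StalkModule.stalkMapₗ_germ (ι₀ I) hq m)
    (fun j c => StalkModule.stalkMapₗ_germ (I.cocomplex.d j (j + 1)) hq c)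
    (fun v => form_mapV (fun i => resR h (f i)) v) ⟨a, hl, rfl⟩
  convert key using 2
  · exact (funext fun i => (TopCat.Presheaf.germ_res_apply P.presheaf (homOfLE h) q hq (f i)).symm)
  · exact (TopCat.Presheaf.germ_res_apply (I.cocomplex.X r).presheaf (homOfLE h) q hq s).symm
  · rfl

end Groth.Agent.Lib.FundLocal.Spread
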