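import Groth.Agent.Lib.FundLocal.Wedge
import Groth.Agent.Lib.FundLocal.Spread
import Groth.Agent.Lib.ArtinFun.HomFinite
import Groth.Agent.Lib.CohBasics.Closure
import Mathlib.RingTheory.Regular.Flat

/-!
# Regular generators of the stalks of the ideal of a regular immersion
-/

set_option autoImplicit false
set_option linter.style.haveILetI false
universe u

open CategoryTheory CategoryTheory.Limits AlgebraicGeometry Opposite TopologicalSpace

noncomputable section

namespace Groth.Agent.Lib.FundLocal.Gen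

open Groth.Agent.Lib Groth.Agent.Lib.Modules OmegaSh

variable {P X : Scheme.{u}} (ι : X ⟶ P) {r : ℕ}

/-- `f` is a regular sequence generating the ideal of `X` at `x`. -/
def IsReg (x : X) (f : Fin r → P.presheaf.stalk (ι.base x)) : Prop :=
  RingTheory.Sequence.IsWeaklyRegular (P.presheaf.stalk (ι.base x)) (List.ofFn f) ∧
    Ideal.span (Set.range f) = RingHom.ker (ι.stalkMap x).hom

/-- Two systems of generators differ by a matrix. -/
theorem exists_mat {x : X} {f f' : Fin r → P.presheaf.stalk (ι.base x)} (hf : IsReg ι x f) (hf' : IsReg ι x f') :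
    ∃ T : Matrix (Fin r) (Fin r) (P.presheaf.stalk (ι.base x)), ∀ i, f' i = ∑ j, T j i * f j := by
  have h : ∀ i, f' i ∈ Ideal.span (Set.range f) := fun i =>
    (hf.2.trans hf'.2.symm) ▸ Ideal.subset_span ⟨i, rfl⟩
  choose c hc using fun i => (Submodule.mem_span_range_iff_exists_fun _).1 (h i)
  exact ⟨fun j i => c i j, fun i => ((hc i).trans rfl).symm⟩

theorem range_form {R : Type u} [CommRing R] (f : Fin r → R) :
    LinearMap.range (Spread.form f) = Ideal.span (Set.range f) := by
  refine le_antisymm ?_ (Ideal.span_le.2 ?_)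
  · rintro _ ⟨v, rfl⟩
    rw [Spread.form_apply]
    exact Ideal.sum_mem _ fun i _ => Ideal.mul_mem_right _ _ (Ideal.subset_span ⟨i, rfl⟩)
  · rintro _ ⟨i, rfl⟩
    exact ⟨Pi.basisFun R (Fin r) i, Spread.form_basis f i⟩

theorem form_comp {R : Type u} [CommRing R] {f f' : Fin r → R} (T : Matrix (Fin r) (Fin r) R)
    (hT : ∀ i, f' i = ∑ j, T j i * f j) : Spread.form f' = Spread.form f ∘ₗ Matrix.toLin' T := by
  refine (Pi.basisFun R (Fin r)).ext fun i => ?_
  rw [Spread.form_basis, hT, LinearMap.comp_apply, Spread.form_apply, Pi.basisFun_apply,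
    Matrix.toLin'_apply, Matrix.mulVec_single_one]
  exact Finset.sum_congr rfl fun j _ => mul_comm _ _

variable [IsClosedImmersion ι]

/-- The germs of a chart generate the stalks. -/
theorem isReg_germ {U : P.Opens} (hU : IsAffineOpen U) (f : Fin r → Γ(P, U))
    (hreg : RingTheory.Sequence.IsWeaklyRegular Γ(P, U) (List.ofFn f))
    (hspan : RingHom.ker (ι.app U).hom = Ideal.span (Set.range f)) (x : X) (hx : ι.base x ∈ U) :
    IsReg ι x fun i => P.presheaf.germ U (ι.base x) hx (f i) := by
  letI := TopCat.Presheaf.algebra_section_stalk P.presheaf (⟨ι.base x, hx⟩ : U)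
  haveI := hU.isLocalization_stalk ⟨ι.base x, hx⟩
  refine ⟨?_, le_antisymm (Ideal.span_le.2 ?_) fun a ha => ?_⟩
  · have h := hreg.of_isLocalization (P.presheaf.stalk (ι.base x))
      (hU.primeIdealOf ⟨ι.base x, hx⟩).asIdeal.primeCompl
    rw [List.map_ofFn] at h
    exact h
  · rintro _ ⟨i, rfl⟩
    show (ι.stalkMap x).hom _ = 0
    rw [Scheme.Hom.germ_stalkMap_apply, show ι.app U (f i) = 0 from
      hspan.ge (Ideal.subset_span ⟨i, rfl⟩), map_zero]
  · obtain ⟨⟨c, s⟩, hs⟩ := IsLocalization.surj (hU.primeIdealOf ⟨ι.base x, hx⟩).asIdeal.primeCompl a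
    have hu : IsUnit (algebraMap Γ(P, U) (P.presheaf.stalk (ι.base x)) s) := IsLocalization.map_units _ s
    have h1 : X.presheaf.germ (ι ⁻¹ᵁ U) x hx (ι.app U c) = 0 := by
      rw [← Scheme.Hom.germ_stalkMap_apply]
      show (ι.stalkMap x).hom (algebraMap Γ(P, U) _ c) = 0
      rw [← hs, map_mul, show (ι.stalkMap x).hom a = 0 from ha, zero_mul]
    letI := TopCat.Presheaf.algebra_section_stalk X.presheaf (⟨x, hx⟩ : (ι ⁻¹ᵁ U : X.Opens))
    haveI := (hU.preimage ι).isLocalization_stalk ⟨x, hx⟩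
    obtain ⟨⟨g, hgp⟩, hg⟩ := (IsLocalization.map_eq_zero_iff ((hU.preimage ι).primeIdealOf ⟨x, hx⟩).asIdeal.primeCompl
      (X.presheaf.stalk x) (ι.app U c)).1 h1
    obtain ⟨g', rfl⟩ := (Conormal92.Affine.isChart_of_closed ι hU).surj g
    have h2 : g' * c ∈ Ideal.span (Set.range f) := hspan.le (by
      show (ι.app U).hom (g' * c) = 0
      rw [map_mul]
      exact hg)
    have hg' : IsUnit (algebraMap Γ(P, U) (P.presheaf.stalk (ι.base x)) g') := by
      refine isUnit_of_map_unit (ι.stalkMap x).hom _ ?_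
      rw [show (ι.stalkMap x).hom (algebraMap Γ(P, U) _ g') = X.presheaf.germ (ι ⁻¹ᵁ U) x hx (ι.app U g') from
        Scheme.Hom.germ_stalkMap_apply ι U x hx g']
      exact IsLocalization.map_units (X.presheaf.stalk x) (⟨_, hgp⟩ :
        ((hU.preimage ι).primeIdealOf ⟨x, hx⟩).asIdeal.primeCompl)
    have h3 : algebraMap Γ(P, U) (P.presheaf.stalk (ι.base x)) (g' * c) ∈
        Ideal.span (Set.range fun i => P.presheaf.germ U (ι.base x) hx (f i)) := by
      have h4 := Ideal.mem_map_of_mem (algebraMap Γ(P, U) (P.presheaf.stalk (ι.base x))) h2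
      rw [Ideal.map_span, ← Set.range_comp] at h4
      exact h4
    rw [map_mul, ← hs, ← mul_assoc, Ideal.mul_unit_mem_iff_mem _ hu] at h3
    exact (Ideal.unit_mul_mem_iff_mem _ hg').1 h3

/-- A chart around a point of a regular immersion. -/
theorem exists_chart (hι : RegImm.IsRegularImmersionOfCodim RegImm.Kind.regular r ι) (x : X) :
    ∃ (U : P.Opens) (_ : IsAffineOpen U) (_ : ι.base x ∈ U) (f : Fin r → Γ(P, U))
      (k : Fin r → Γ(ClSub.idealMod ι.ker, U)),
      RingTheory.Sequence.IsWeaklyRegular Γ(P, U) (List.ofFn f) ∧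
      RingHom.ker (ι.app U).hom = Ideal.span (Set.range f) ∧ ∀ i, idealSect ι.ker U (k i) = f i := by
  obtain ⟨U, hx, -, rs, hlen, hreg, hker⟩ := hι.2 x
  subst hlen
  have hrs : List.ofFn rs.get = rs := List.ofFn_get rs
  have hspan : RingHom.ker (ι.app U.1).hom = Ideal.span (Set.range rs.get) :=
    hker.trans (congrArg Ideal.span (Set.range_list_get rs).symm)
  choose k hk using fun i => (Conormal92.Affine.exists_idealSect_iff U.2 (rs.get i)).2
    (hspan.ge (Ideal.subset_span ⟨i, rfl⟩))
  exact ⟨U.1, U.2, hx, rs.get, k, hrs.symm ▸ (show RingTheory.Sequence.IsRegular _ rs from hreg).toIsWeaklyRegular,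
    hspan, hk⟩

/-- The exterior power of the conormal sheaf is coherent. -/
theorem isCoh_extPow [IsLocallyNoetherian P] {L : X.Modules}
    (hL : ExtPow.IsExtPow r (Omega.conormal ι) L) : Coh.IsCoh L := by
  haveI : IsLocallyNoetherian X := LocallyOfFiniteType.isLocallyNoetherian ι
  have hC := ArtinFun.HomFinite.isCoh_conormal ι
  haveI := hC.1
  obtain ⟨φ, hφ⟩ := hL
  haveI : L.IsQuasicoherent := H95.ExtPowQCoh.isQuasicoherent_of_loc r φ hφ
  refine CohBasics.Closure.isCoh_of_finite_sections fun U hU => ?_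
  haveI : Module.Finite Γ(X, U) ((Omega.conormal ι).val.obj (op U)) := CohBasics.Closure.finite_sections hC hU
  exact Module.Finite.equiv (φ ⟨U, hU⟩).symm

end Groth.Agent.Lib.FundLocal.Gen
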