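import Groth.Agent.Lib.FundLocal.BaseChange

/-!
# The value in `M / J M` of a cocycle killed by `J`
-/

set_option autoImplicit false
set_option linter.style.haveILetI false
universe u

open ExteriorAlgebra

noncomputable section

namespace Groth.Agent.Lib.FundLocal.Value

open Groth.Agent.Lib Groth.Agent.Lib.FundLocal.Algebra

variable {R : Type u} [CommRing R] {r : ℕ}
  {M : Type u} [AddCommGroup M] [Module R M] {C : ℕ → Type u} [∀ j, AddCommGroup (C j)] [∀ j, Module R (C j)]
  (η : M →ₗ[R] C 0) (d : ∀ j, C j →ₗ[R] C (j + 1)) (φ : Module.Dual R (Fin r → R))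

/-- A cochain as a map out of `⋀⁰`. -/
def init {j : ℕ} (s : C j) : ↥(⋀[R]^0 (Fin r → R)) →ₗ[R] C j :=
  (LinearMap.toSpanSingleton R (C j) s).comp (exteriorPower.zeroEquiv R (Fin r → R)).toLinearMap

theorem init_apply {j : ℕ} (s : C j) (x : ↥(⋀[R]^0 (Fin r → R))) :
    init (r := r) s x = exteriorPower.zeroEquiv R (Fin r → R) x • s := rfl

theorem init_one {j : ℕ} (s : C j) :
    init (r := r) s (exteriorPower.ιMulti R 0 (fun i => i.elim0)) = s := by
  rw [init_apply, exteriorPower.zeroEquiv_ιMulti, one_smul]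

/-- `m` is a value of the cochain `s`. -/
def Val (s : C r) (m : M) : Prop :=
  ∃ a, Linked η d φ r 0 (init s) a ∧ a ((ω : ↥(⋀[R]^r (Fin r → R))) : ExteriorAlgebra R (Fin r → R)) = m

variable {η d φ}

theorem val_add {s s' : C r} {m m' : M} (h : Val η d φ s m) (h' : Val η d φ s' m') :
    Val η d φ (s + s') (m + m') := by
  obtain ⟨a, ha, rfl⟩ := h
  obtain ⟨a', ha', rfl⟩ := h'
  refine ⟨a + a', ?_, rfl⟩
  rw [show init (r := r) (s + s') = init s + init s' from LinearMap.ext fun x => smul_add _ s s']
  exact linked_add ha ha'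

theorem val_smul (c : R) {s : C r} {m : M} (h : Val η d φ s m) : Val η d φ (c • s) (c • m) := by
  obtain ⟨a, ha, rfl⟩ := h
  refine ⟨c • a, ?_, rfl⟩
  rw [show init (r := r) (c • s) = c • init s from LinearMap.ext fun x => smul_comm _ c s]
  exact linked_smul c ha

theorem val_zero : Val η d φ (0 : C r) (0 : M) := by
  refine ⟨0, ?_, rfl⟩
  rw [show init (r := r) (0 : C r) = 0 from LinearMap.ext fun x => smul_zero _]
  exact linked_zero

/-- The values are multiplied by the determinant under a change of generators. -/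
theorem val_comp (T : (Fin r → R) →ₗ[R] Fin r → R) {s : C r} {m : M} (h : Val η d φ s m) :
    Val η d (φ ∘ₗ T) s (LinearMap.det T • m) := by
  obtain ⟨a, ha, rfl⟩ := h
  refine ⟨a.comp (ExteriorAlgebra.map T).toLinearMap, ?_, ?_⟩
  · have e : (init (r := r) s).comp (exteriorPower.map 0 T) = init s := LinearMap.ext fun x =>
      congrArg (· • s) (LinearMap.congr_fun (exteriorPower.zeroEquiv_naturality T) x)
    rw [← e]
    exact linked_comp T ha
  · rw [LinearMap.comp_apply, AlgHom.toLinearMap_apply, ← map_smul]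
    congr 1
    have h2 := congrArg Subtype.val (map_ω (R := R) T)
    rw [ω, exteriorPower.map_apply_ιMulti, exteriorPower.ιMulti_apply_coe, Submodule.coe_smul,
      exteriorPower.ιMulti_apply_coe] at h2
    rw [ω, exteriorPower.ιMulti_apply_coe, ExteriorAlgebra.map_apply_ιMulti]
    exact h2

theorem val_baseChange {R' : Type u} [CommRing R'] [Algebra R R'] {M' : Type u} [AddCommGroup M']
    [Module R' M'] [Module R M'] [IsScalarTower R R' M'] {C' : ℕ → Type u} [∀ j, AddCommGroup (C' j)]
    [∀ j, Module R' (C' j)] [∀ j, Module R (C' j)] [∀ j, IsScalarTower R R' (C' j)] {η' : M' →ₗ[R'] C' 0}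
    {d' : ∀ j, C' j →ₗ[R'] C' (j + 1)} {φ' : Module.Dual R' (Fin r → R')} (u : M →ₗ[R] M')
    (F : ∀ j, C j →ₗ[R] C' j) (hu : ∀ m, η' (u m) = F 0 (η m)) (hF : ∀ j c, d' j (F j c) = F (j + 1) (d j c))
    (hφ : ∀ v, φ' (BaseChange.mapV R R' r v) = algebraMap R R' (φ v)) {s : C r} {m : M}
    (h : Val η d φ s m) : Val η' d' φ' (F r s) (u m) := by
  obtain ⟨a, ha, rfl⟩ := h
  refine ⟨_, BaseChange.linked_baseChange u F hu hF hφ (by omega) (init (F r s)) (fun x => ?_) ha, ?_⟩
  · have hx : exteriorPower.zeroEquiv R' (Fin r → R') (BaseChange.push R R' r 0 x) =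
        algebraMap R R' (exteriorPower.zeroEquiv R (Fin r → R) x) := by
      have e : ((exteriorPower.zeroEquiv R' (Fin r → R')).toLinearMap.restrictScalars R).comp
          (BaseChange.push R R' r 0) =
          (Algebra.linearMap R R').comp (exteriorPower.zeroEquiv R (Fin r → R)).toLinearMap := by
        refine exteriorPower.linearMap_ext (AlternatingMap.ext fun v => ?_)
        simp [BaseChange.push_ιMulti]
      exact LinearMap.congr_fun e x
    rw [init_apply, init_apply, map_smul, hx, algebraMap_smul]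
  · rw [LinearMap.comp_apply, coord_ω, LinearMap.toSpanSingleton_apply, one_smul]

variable (hη : Function.Injective η) (h0 : Function.Exact η (d 0)) (hd : ∀ j, Function.Exact (d j) (d (j + 1)))

include h0 hd

theorem exists_val {s : C r} (hs : d r s = 0) (hJ : ∀ v, φ v • s = 0) : ∃ m, Val η d φ s m := by
  obtain ⟨a, ha⟩ := exists_linked h0 hd (φ := φ) (init (r := r) s) (LinearMap.ext fun x => by
    rw [LinearMap.comp_apply, init_apply, map_smul, hs, smul_zero, LinearMap.zero_apply]) fun x => by
    have hx := K_mem φ 0 x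
    refine Submodule.smul_induction_on hx (fun f hf n _ => ?_) fun a b ha hb => ?_
    · obtain ⟨v, rfl⟩ := hf
      rw [map_smul, init_apply, smul_comm, hJ, smul_zero]
    · rw [map_add, ha, hb, add_zero]
  exact ⟨_, a, ha, rfl⟩

include hη

/-- The value of a coboundary is in `J M`. -/
theorem val_mem {s : C r} {m : M} (h : Val η d φ s m)
    (hs : ∀ j (hj : j + 1 = r), ∃ u : C j, hj ▸ d j u = s ∧ ∀ v, φ v • u = 0) (h0r : r = 0 → s = 0) :
    m ∈ LinearMap.range φ • (⊤ : Submodule R M) := by
  obtain ⟨a, ha, rfl⟩ := h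
  cases r with
  | zero =>
    have h1 := LinearMap.congr_fun ha ω
    rw [init_apply, h0r rfl, smul_zero] at h1
    have h2 : a ((ω : ↥(⋀[R]^0 (Fin 0 → R))) : ExteriorAlgebra R (Fin 0 → R)) = 0 := hη (h1.trans (map_zero η).symm)
    rw [h2]
    exact Submodule.zero_mem _
  | succ j =>
    obtain ⟨u, hu, huJ⟩ := hs j rfl
    refine linked_coboundary hη h0 hd (init u) (LinearMap.ext fun x => ?_) (fun x => ?_) ha _ ω.2
    · rw [LinearMap.comp_apply, init_apply, map_smul]
      exact congrArg _ hu
    · refine Submodule.smul_induction_on (K_mem φ 0 x) (fun f hf n _ => ?_) fun a b ha hb => ?_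
      · obtain ⟨v, rfl⟩ := hf
        rw [map_smul, init_apply, smul_comm, huJ, smul_zero]
      · rw [map_add, ha, hb, add_zero]

/-- Two values differ by an element of `J M`. -/
theorem val_sub_mem {s : C r} {m m' : M} (h : Val η d φ s m) (h' : Val η d φ s m') :
    m - m' ∈ LinearMap.range φ • (⊤ : Submodule R M) := by
  have h2 := val_add h (val_smul (-1) h')
  rw [neg_one_smul, neg_one_smul, add_neg_cancel, ← sub_eq_add_neg] at h2
  exact val_mem hη h0 hd h2
    (fun j hj => ⟨0, by subst hj; exact map_zero _, fun v => smul_zero _⟩) fun _ => rfl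

omit hη

variable (hinj : ∀ j, Module.Injective R (C j))
  (hreg : RingTheory.Sequence.IsWeaklyRegular R ((List.ofFn fun i : Fin r => φ (Pi.basisFun R (Fin r) i)) : List R))

include hinj hreg

/-- For a regular sequence every element is a value. -/
theorem val_surjective (m : M) : ∃ s : C r, d r s = 0 ∧ (∀ v, φ v • s = 0) ∧ Val η d φ s m := by
  obtain ⟨g, hg, hgK, hl⟩ := exists_linked_of_top h0 hd hinj hreg
    ((LinearMap.toSpanSingleton R M m).comp coord) r 0 (by omega)
  let e : ↥(⋀[R]^0 (Fin r → R)) := exteriorPower.ιMulti R 0 fun i => i.elim0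
  have hg0 : g = init (g e) := exteriorPower.linearMap_ext (AlternatingMap.ext fun v => by
    rw [LinearMap.compAlternatingMap_apply, LinearMap.compAlternatingMap_apply, init_apply,
      exteriorPower.zeroEquiv_ιMulti, one_smul]
    exact congrArg g (congrArg _ (funext fun i => i.elim0)))
  refine ⟨g e, LinearMap.congr_fun hg e, fun v => ?_, _, hg0 ▸ hl, ?_⟩
  · have h1 := hgK (exteriorPower.ιMulti R 1 fun _ => v)
    rw [KoszulSh.Algebra.d_ιMulti, KoszSh.dGen, Fin.sum_univ_one, map_smul, Fin.val_zero, pow_zero,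
      one_mul] at h1
    exact (congrArg (fun t => φ v • g t) (congrArg _ (funext fun i => i.elim0))).trans h1
  · rw [LinearMap.comp_apply, coord_ω, LinearMap.toSpanSingleton_apply, one_smul]

/-- For a regular sequence only coboundaries have values in `J M`. -/
theorem exists_coboundary_of_val {s : C r} {m : M} (h : Val η d φ s m)
    (hm : m ∈ LinearMap.range φ • (⊤ : Submodule R M)) :
    (r = 0 → s = 0) ∧ ∀ j (hj : j + 1 = r), ∃ u : C j, hj ▸ d j u = s ∧ ∀ v, φ v • u = 0 := by
  obtain ⟨a, ha, rfl⟩ := h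
  let e : ↥(⋀[R]^0 (Fin r → R)) := exteriorPower.ιMulti R 0 fun i => i.elim0
  refine ⟨fun hr => ?_, fun j hj => ?_⟩
  · subst hr
    have h1 := LinearMap.congr_fun ha e
    rw [init_one] at h1
    have hφ : LinearMap.range φ = ⊥ := LinearMap.range_eq_bot.2 (LinearMap.ext fun v => by
      rw [Subsingleton.elim v 0, map_zero, map_zero])
    rw [hφ, Submodule.bot_smul, Submodule.mem_bot] at hm
    rw [← h1, eq_coord_smul e, map_smul, LinearMap.comp_apply, LinearMap.comp_apply, Submodule.subtype_apply,
      hm, map_zero, smul_zero]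
  · subst hj
    obtain ⟨b, hb⟩ := exists_boundary (r := j + 1) hm
    have hx : ∀ x : ↥(⋀[R]^(j + 1) (Fin (j + 1) → R)),
        a (x : ExteriorAlgebra R (Fin (j + 1) → R)) = b (KoszulSh.Algebra.D φ (x : ExteriorAlgebra R (Fin (j + 1) → R))) :=
      fun x => by rw [eq_coord_smul x, Submodule.coe_smul, map_smul, map_smul, map_smul, hb]
    obtain ⟨u, hu, huK⟩ := exists_coboundary h0 hd hinj hreg b (j := j) (k := 0) (by omega)
      (a := a) hx ha
    refine ⟨u e, (LinearMap.congr_fun hu e).trans (init_one s), fun v => ?_⟩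
    have h1 := huK (exteriorPower.ιMulti R 1 fun _ => v)
    rw [KoszulSh.Algebra.d_ιMulti, KoszSh.dGen, Fin.sum_univ_one, map_smul, Fin.val_zero, pow_zero,
      one_mul] at h1
    exact (congrArg (fun t => φ v • u t) (congrArg _ (funext fun i => i.elim0))).trans h1

end Groth.Agent.Lib.FundLocal.Value
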