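import Groth.Agent.Lib.FundLocal.Gen
import Groth.Agent.Lib.FundLocal.Cocycle
import Groth.Agent.Lib.InjMod.Stalk

/-!
# The values of the cycles of `ℋom(ι_*O_X, I^•)`
-/

set_option autoImplicit false
set_option linter.style.haveILetI false
universe u

open CategoryTheory CategoryTheory.Limits AlgebraicGeometry Opposite TopologicalSpace

noncomputable section

namespace Groth.Agent.Lib.FundLocal.CycleValue

open Groth.Agent.Lib Groth.Agent.Lib.Modules Groth.Agent.Lib.ExtShStalk Cocycle

variable {P X : Scheme.{u}} (ι : X ⟶ P) [ModSite.HasSheafHom (O := P.sheaf) (M₀ ι)] {F : P.Modules}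
  (I : InjectiveResolution F) {r : ℕ}

instance additive_R : (Hom.R (M₀ ι)).Additive := (Hom.adj (M₀ ι)).right_adjoint_additive

/-- The complex computing the Ext sheaves. -/
abbrev cx : CochainComplex P.Modules ℕ := ((Hom.R (M₀ ι)).mapHomologicalComplex _).obj I.cocomplex

/-- The cochain of a cycle. -/
def evz (r : ℕ) (p : P) :
    ((cx ι I).cycles r).presheaf.stalk p →ₗ[P.presheaf.stalk p] (I.cocomplex.X r).presheaf.stalk p :=
  (ev ι (I.cocomplex.X r) p).comp (StalkModule.stalkMapₗ ((cx ι I).iCycles r) p)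

theorem d_ev (p : P) (j : ℕ) (v : ((cx ι I).X j).presheaf.stalk p) :
    ev ι (I.cocomplex.X (j + 1)) p (StalkModule.stalkMapₗ ((cx ι I).d j (j + 1)) p v) =
      Spread.d I p j (ev ι (I.cocomplex.X j) p v) :=
  ev_natural ι (I.cocomplex.d j (j + 1)) p v

theorem d_evz (p : P) (z : ((cx ι I).cycles r).presheaf.stalk p) : Spread.d I p r (evz ι I r p z) = 0 := by
  refine (d_ev ι I p r _).symm.trans ?_
  have h := LinearMap.congr_fun (((StalkModule.stalkMapₗ_comp _ _ p).symm.trans
    (congrArg (fun t => StalkModule.stalkMapₗ t p) ((cx ι I).iCycles_d r (r + 1)))).trans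
      (StalkModule.stalkMapₗ_zero p)) z
  exact (congrArg _ h).trans (map_zero _)

theorem evz_toCycles (p : P) (i : ℕ) (v : ((cx ι I).X i).presheaf.stalk p) :
    evz ι I r p (StalkModule.stalkMapₗ ((cx ι I).toCycles i r) p v) =
      ev ι (I.cocomplex.X r) p (StalkModule.stalkMapₗ ((cx ι I).d i r) p v) := by
  show ev ι _ p (StalkModule.stalkMapₗ ((cx ι I).iCycles r) p _) = _
  rw [← LinearMap.comp_apply (g := StalkModule.stalkMapₗ ((cx ι I).toCycles i r) p),
    ← StalkModule.stalkMapₗ_comp, HomologicalComplex.toCycles_i]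

/-- `b` is the value of the cycle `z` for the generators `f`. -/
def IsValue (x : X) (f : Fin r → P.presheaf.stalk (ι.base x))
    (z : ((cx ι I).cycles r).presheaf.stalk (ι.base x))
    (b : ((Scheme.Modules.pullback ι).obj F).presheaf.stalk x) : Prop :=
  ∃ m, Value.Val (Spread.η I (ι.base x)) (Spread.d I (ι.base x)) (Spread.form f) (evz ι I r (ι.base x) z) m ∧
    q ι F x m = b

variable [IsClosedImmersion ι] {x : X} {f : Fin r → P.presheaf.stalk (ι.base x)}

theorem form_mem (hf : Gen.IsReg ι x f) (v : Fin r → P.presheaf.stalk (ι.base x)) :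
    (ι.stalkMap x).hom (Spread.form f v) = 0 :=
  (Gen.range_form f).trans hf.2 |>.le ⟨v, rfl⟩

theorem exists_value (hf : Gen.IsReg ι x f) (z : ((cx ι I).cycles r).presheaf.stalk (ι.base x)) :
    ∃ b, IsValue ι I x f z b := by
  obtain ⟨m, hm⟩ := Value.exists_val (η := Spread.η I (ι.base x)) (φ := Spread.form f)
    (Spread.exact₀ I _) (Spread.exact_succ I _) (d_evz ι I _ z)
    fun v => ev_killed ι _ x _ _ (form_mem ι hf v)
  exact ⟨_, m, hm, rfl⟩

theorem value_unique (hf : Gen.IsReg ι x f) {z : ((cx ι I).cycles r).presheaf.stalk (ι.base x)}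
    {b b' : ((Scheme.Modules.pullback ι).obj F).presheaf.stalk x} (h : IsValue ι I x f z b)
    (h' : IsValue ι I x f z b') : b = b' := by
  obtain ⟨m, hm, rfl⟩ := h
  obtain ⟨m', hm', rfl⟩ := h'
  have h1 := Value.val_sub_mem (Spread.η_injective I _) (Spread.exact₀ I _) (Spread.exact_succ I _) hm hm'
  rw [Gen.range_form, hf.2] at h1
  have h2 : q ι F x m = q ι F x (m - m') + q ι F x m' := by rw [← q_add, sub_add_cancel]
  rw [h2, (q_eq_zero_iff ι F x _).2 h1, zero_add]

theorem value_add {z z' : ((cx ι I).cycles r).presheaf.stalk (ι.base x)}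
    {b b' : ((Scheme.Modules.pullback ι).obj F).presheaf.stalk x} (h : IsValue ι I x f z b)
    (h' : IsValue ι I x f z' b') : IsValue ι I x f (z + z') (b + b') := by
  obtain ⟨m, hm, rfl⟩ := h
  obtain ⟨m', hm', rfl⟩ := h'
  exact ⟨m + m', by rw [map_add]; exact Value.val_add hm hm', q_add ι F x m m'⟩

theorem value_smul {z : ((cx ι I).cycles r).presheaf.stalk (ι.base x)}
    {b : ((Scheme.Modules.pullback ι).obj F).presheaf.stalk x} (c : P.presheaf.stalk (ι.base x))
    (h : IsValue ι I x f z b) : IsValue ι I x f (c • z) ((ι.stalkMap x).hom c • b) := by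
  obtain ⟨m, hm, rfl⟩ := h
  exact ⟨c • m, by rw [_root_.map_smul]; exact Value.val_smul c hm, q_smul ι F x c m⟩

theorem value_change {f' : Fin r → P.presheaf.stalk (ι.base x)}
    (T : Matrix (Fin r) (Fin r) (P.presheaf.stalk (ι.base x))) (hT : ∀ i, f' i = ∑ j, T j i * f j)
    {z : ((cx ι I).cycles r).presheaf.stalk (ι.base x)}
    {b : ((Scheme.Modules.pullback ι).obj F).presheaf.stalk x} (h : IsValue ι I x f z b) :
    IsValue ι I x f' z ((ι.stalkMap x).hom T.det • b) := by
  obtain ⟨m, hm, rfl⟩ := h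
  refine ⟨T.det • m, ?_, q_smul ι F x _ m⟩
  rw [Gen.form_comp T hT, ← LinearMap.det_toLin']
  exact Value.val_comp _ hm

variable [IsLocallyNoetherian P]

theorem evz_injective (p : P) : Function.Injective (evz ι I r p) :=
  (ev_injective ι _ p).comp ((StalkModule.mono_iff_stalkMapₗ_injective _).1 inferInstance p)

/-- Boundaries have value zero. -/
theorem value_toCycles (hf : Gen.IsReg ι x f) {i : ℕ} (hi : (ComplexShape.up ℕ).prev r = i)
    (v : ((cx ι I).X i).presheaf.stalk (ι.base x)) :
    IsValue ι I x f (StalkModule.stalkMapₗ ((cx ι I).toCycles i r) (ι.base x) v) 0 := by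
  obtain ⟨b, hb⟩ := exists_value ι I hf (StalkModule.stalkMapₗ ((cx ι I).toCycles i r) (ι.base x) v)
  convert hb using 1
  obtain ⟨m, hm, rfl⟩ := hb
  refine ((q_eq_zero_iff ι F x m).2 (hf.2 ▸ Gen.range_form f ▸ ?_)).symm
  rw [evz_toCycles] at hm
  cases r with
  | zero =>
    refine Value.val_mem (Spread.η_injective I _) (Spread.exact₀ I _) (Spread.exact_succ I _) hm
      (fun j hj => absurd hj (by omega)) fun _ => ?_
    rw [(cx ι I).shape i 0 (by simp), StalkModule.stalkMapₗ_zero, LinearMap.zero_apply]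
    exact map_zero _
  | succ j =>
    obtain rfl : j = i := by rw [← hi]; simp
    refine Value.val_mem (Spread.η_injective I _) (Spread.exact₀ I _) (Spread.exact_succ I _) hm
      (fun j' hj => ?_) fun h => absurd h (by omega)
    obtain rfl : j' = j := Nat.succ_injective hj
    exact ⟨ev ι _ _ v, (d_ev ι I _ j' v).symm, fun w => ev_killed ι _ x _ _ (form_mem ι hf w)⟩

/-- Only boundaries have value zero. -/
theorem exists_of_value_zero (hf : Gen.IsReg ι x f) {i : ℕ} (hi : (ComplexShape.up ℕ).prev r = i)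
    {z : ((cx ι I).cycles r).presheaf.stalk (ι.base x)} (h : IsValue ι I x f z 0) :
    ∃ v, StalkModule.stalkMapₗ ((cx ι I).toCycles i r) (ι.base x) v = z := by
  obtain ⟨m, hm, hq⟩ := h
  have hmem := (q_eq_zero_iff ι F x m).1 hq
  rw [← hf.2, ← Gen.range_form f] at hmem
  obtain ⟨h0, h1⟩ := Value.exists_coboundary_of_val (Spread.exact₀ I _) (Spread.exact_succ I _)
    (fun j => InjMod.injective_stalk (I.injective j) (ι.base x))
    ((congrArg List.ofFn (funext (Spread.form_basis f))).symm ▸ hf.1) hm hmem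
  cases r with
  | zero =>
    refine ⟨0, evz_injective ι I _ ?_⟩
    rw [h0 rfl, map_zero, map_zero]
  | succ j =>
    obtain rfl : j = i := by rw [← hi]; simp
    obtain ⟨u, hu, huJ⟩ := h1 j rfl
    obtain ⟨v, rfl⟩ := exists_of_killed ι _ x u fun a ha => by
      obtain ⟨w, rfl⟩ := ((Gen.range_form f).trans hf.2).ge ha
      exact huJ w
    exact ⟨v, evz_injective ι I _ ((evz_toCycles ι I _ j v).trans ((d_ev ι I _ j v).trans hu))⟩

/-- Every element is a value. -/
theorem exists_cycle (hf : Gen.IsReg ι x f) (b : ((Scheme.Modules.pullback ι).obj F).presheaf.stalk x) :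
    ∃ z, IsValue ι I x f z b := by
  obtain ⟨m, rfl⟩ := q_surjective ι F x b
  obtain ⟨s, hs, hsJ, hm⟩ := Value.val_surjective (Spread.exact₀ I _) (Spread.exact_succ I _)
    (fun j => InjMod.injective_stalk (I.injective j) (ι.base x))
    (φ := Spread.form f) ((congrArg List.ofFn (funext (Spread.form_basis f))).symm ▸ hf.1) m
  obtain ⟨v, rfl⟩ := exists_of_killed ι _ x s fun a ha => by
    obtain ⟨w, rfl⟩ := ((Gen.range_form f).trans hf.2).ge ha
    exact hsJ w
  have hd : StalkModule.stalkMapₗ ((cx ι I).d r (r + 1)) (ι.base x) v = 0 :=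
    ev_injective ι _ _ ((d_ev ι I _ r v).trans (hs.trans (map_zero _).symm))
  have hex : Function.Exact (StalkModule.stalkMapₗ ((cx ι I).iCycles r) (ι.base x))
      (StalkModule.stalkMapₗ ((cx ι I).d r (r + 1)) (ι.base x)) :=
    (ShortComplex.ShortExact.moduleCat_exact_iff_function_exact _).1
      ((ShortComplex.exact_of_f_is_kernel (ShortComplex.mk ((cx ι I).iCycles r) ((cx ι I).d r (r + 1))
        ((cx ι I).iCycles_d r (r + 1))) ((cx ι I).cyclesIsKernel r (r + 1) (by simp))).map
          (StalkModule.stalkModFunctor P (ι.base x)))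
  obtain ⟨z, rfl⟩ := (hex v).1 hd
  exact ⟨z, m, hm, rfl⟩

end Groth.Agent.Lib.FundLocal.CycleValue
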