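import Groth.Agent.Lib.Modules.StalkModule
import Groth.Agent.Lib.PushClosed.Unit
import Mathlib.Topology.Sheaves.SheafCondition.UniqueGluing

/-!
# A morphism into a direct image from maps of stalks
-/

set_option autoImplicit false
universe u

open CategoryTheory AlgebraicGeometry Opposite TopologicalSpace

noncomputable section

namespace Groth.Agent.Lib.FundLocal.HomPush

open Groth.Agent.Lib Groth.Agent.Lib.Modules

variable {P X : Scheme.{u}} (ι : X ⟶ P) {M : P.Modules} {N : X.Modules}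
  (g : ∀ x : X, M.presheaf.stalk (ι.base x) → N.presheaf.stalk x)

/-- The maps carry germs of sections to germs of sections, locally. -/
def IsCont : Prop :=
  ∀ (x : X) (v : M.presheaf.stalk (ι.base x)), ∃ (U : P.Opens) (_ : ι.base x ∈ U) (s : Γ(M, U))
    (t : Γ(N, ι ⁻¹ᵁ U)), M.presheaf.germ U (ι.base x) ‹_› s = v ∧ ∀ (y : X) (hy : ι.base y ∈ U),
      g y (M.presheaf.germ U (ι.base y) hy s) = N.presheaf.germ (ι ⁻¹ᵁ U) y hy t

theorem exists_section (hg : IsCont ι g) (U : P.Opens) (s : Γ(M, U)) :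
    ∃ t : Γ(N, ι ⁻¹ᵁ U), ∀ (x : X) (hx : ι.base x ∈ U),
      g x (M.presheaf.germ U (ι.base x) hx s) = N.presheaf.germ (ι ⁻¹ᵁ U) x hx t := by
  have hloc : ∀ x : (ι ⁻¹ᵁ U : X.Opens), ∃ (W : P.Opens) (_ : ι.base x.1 ∈ W) (_ : W ≤ U) (t : Γ(N, ι ⁻¹ᵁ W)),
      ∀ (y : X) (hy : ι.base y ∈ W) (hyU : ι.base y ∈ U),
        g y (M.presheaf.germ U (ι.base y) hyU s) = N.presheaf.germ (ι ⁻¹ᵁ W) y hy t := by
    intro x
    obtain ⟨V, hxV, s', t', hs', ht'⟩ := hg x.1 (M.presheaf.germ U (ι.base x.1) x.2 s)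
    obtain ⟨W, hxW, iV, iU, hW⟩ := TopCat.Presheaf.germ_eq M.presheaf (ι.base x.1) hxV x.2 s' s hs'
    refine ⟨W, hxW, iU.le, N.presheaf.map (homOfLE (ι.preimage_mono iV.le)).op t', fun y hy hyU => ?_⟩
    rw [TopCat.Presheaf.germ_res_apply N.presheaf (homOfLE (ι.preimage_mono iV.le)) y hy, ← ht' y (iV.le hy),
      ← TopCat.Presheaf.germ_res_apply M.presheaf iU (ι.base y) hy s, ← hW,
      TopCat.Presheaf.germ_res_apply M.presheaf iV (ι.base y) hy]
  choose W hxW hWU t ht using hloc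
  obtain ⟨T, hT, -⟩ := TopCat.Sheaf.existsUnique_gluing' ⟨N.presheaf, N.isSheaf⟩
    (fun x => ι ⁻¹ᵁ W x) (ι ⁻¹ᵁ U)
    (fun x => homOfLE (ι.preimage_mono (hWU x))) (fun y hy => Opens.mem_iSup.2 ⟨⟨y, hy⟩, hxW ⟨y, hy⟩⟩) t
    (fun a b => by
      refine TopCat.Presheaf.section_ext ⟨N.presheaf, N.isSheaf⟩ _ _ _ fun y hy => ?_
      change N.presheaf.germ _ y hy (N.presheaf.map _ (t a)) = N.presheaf.germ _ y hy (N.presheaf.map _ (t b))
      rw [TopCat.Presheaf.germ_res_apply, TopCat.Presheaf.germ_res_apply,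
        ← ht a y hy.1 (hWU a hy.1), ← ht b y hy.2 (hWU a hy.1)])
  refine ⟨T, fun x hx => ?_⟩
  rw [ht ⟨x, hx⟩ x (hxW _) hx, ← hT ⟨x, hx⟩]
  exact TopCat.Presheaf.germ_res_apply N.presheaf _ x _ T

/-- The morphism to the direct image. -/
theorem exists_hom (hg : IsCont ι g) (hadd : ∀ x a b, g x (a + b) = g x a + g x b)
    (hsmul : ∀ x (c : P.presheaf.stalk (ι.base x)) a, g x (c • a) = (ι.stalkMap x).hom c • g x a) :
    ∃ φ : M ⟶ (Scheme.Modules.pushforward ι).obj N, ∀ x v,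
      DerivedOX.PullbackStalk.pushStalkMap ι x N (StalkModule.stalkMapₗ φ (ι.base x) v) = g x v := by
  choose G hG using exists_section ι g hg
  have ext : ∀ (U : P.Opens) (t t' : Γ(N, ι ⁻¹ᵁ U)),
      (∀ x hx, N.presheaf.germ (ι ⁻¹ᵁ U) x hx t = N.presheaf.germ (ι ⁻¹ᵁ U) x hx t') → t = t' := fun U t t' =>
    TopCat.Presheaf.section_ext ⟨N.presheaf, N.isSheaf⟩ (ι ⁻¹ᵁ U) t t'
  have hG_add : ∀ U a b, G U (a + b) = G U a + G U b := fun U a b => ext _ _ _ fun x hx => by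
    rw [map_add, ← hG, ← hG, ← hG, map_add, hadd]
  let η : M.presheaf ⟶ ((Scheme.Modules.pushforward ι).obj N).presheaf :=
    { app := fun U => AddCommGrpCat.ofHom
        (AddMonoidHom.mk' (M := Γ(M, U.unop)) (G := Γ(N, ι ⁻¹ᵁ U.unop)) (G U.unop) (hG_add U.unop))
      naturality := fun U V i => by
        refine AddCommGrpCat.hom_ext (AddMonoidHom.ext fun s => ?_)
        refine ext _ _ _ fun x hx => ?_
        change N.presheaf.germ (ι ⁻¹ᵁ V.unop) x hx (G V.unop (M.presheaf.map i s)) =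
          N.presheaf.germ (ι ⁻¹ᵁ V.unop) x hx (N.presheaf.map (homOfLE (ι.preimage_mono i.unop.le)).op (G U.unop s))
        rw [← hG, show i = i.unop.op from rfl, TopCat.Presheaf.germ_res_apply, TopCat.Presheaf.germ_res_apply,
          hG] }
  refine ⟨⟨PresheafOfModules.homMk η fun U c m => ?_⟩, fun x v => ?_⟩
  · refine ext _ _ _ fun x hx => ?_
    change N.presheaf.germ (ι ⁻¹ᵁ U.unop) x hx (G U.unop ((show Γ(P, U.unop) from c) • (show Γ(M, U.unop) from m))) =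
      N.presheaf.germ (ι ⁻¹ᵁ U.unop) x hx
        (ι.app U.unop (show Γ(P, U.unop) from c) • (G U.unop (show Γ(M, U.unop) from m)))
    rw [← hG, StalkModule.germ_smul, StalkModule.germ_smul, hsmul, hG, Scheme.Hom.germ_stalkMap_apply]
  · obtain ⟨U, hx, s, rfl⟩ := TopCat.Presheaf.exists_germ_eq M.presheaf v
    rw [StalkModule.stalkMapₗ_germ]
    exact (DerivedOX.PullbackStalk.pushStalkMap_germ ι x N _ _).trans (hG U s x hx).symm

end Groth.Agent.Lib.FundLocal.HomPush
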