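import Groth.Agent.Lib.FundLocal.Gen
import Groth.Agent.Lib.ExtShStalk.Hom
import Groth.Agent.Lib.Pinch.StalkFrame
import Groth.Agent.Lib.TensorMod.Invertible
import Groth.Agent.Lib.TensorMod.Colimit
import Groth.Agent.Lib.ProjCoh.Coherent

/-!
# The internal hom out of an invertible module; the determinant of the conormal sheaf is invertible
-/

set_option autoImplicit false
set_option linter.style.haveILetI false
universe u

open CategoryTheory CategoryTheory.Limits AlgebraicGeometry Opposite TopologicalSpace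

noncomputable section

namespace Groth.Agent.Lib.FundLocal.InvHom

open Groth.Agent.Lib Groth.Agent.Lib.Modules Groth.Agent.Lib.TensorMod
open Groth.Agent.Lib.TensorMod.Basic
open Groth.Agent.Lib.TensorMod.Dual (rs rf)

section Invertible

variable {P X : Scheme.{u}} (ι : X ⟶ P) [IsClosedImmersion ι] {r : ℕ} {L : X.Modules}

/-- The top exterior power of the conormal sheaf of a regular immersion is invertible. -/
theorem isInvertible_extPow (hι : RegImm.IsRegularImmersionOfCodim RegImm.Kind.regular r ι)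
    (hL : ExtPow.IsExtPow r (Omega.conormal ι) L) : PicF.IsInvertible L := by
  refine Gen.isInvertible_iff.2 fun x => ?_
  obtain ⟨U, hU, hx, f, k, hreg, hspan, hk⟩ := FundLocal.Gen.exists_chart ι hι x
  let l := FundLocal.Wedge.wedgeSec ι hL U hU k
  refine ⟨ι ⁻¹ᵁ U, l, hx, fun V h => ?_⟩
  have hf : Pinch.StalkFrame.IsFrame L (ι ⁻¹ᵁ U) (fun _ : Fin 1 => l) := fun y hy => by
    have hb := FundLocal.Wedge.bijective_toSpanSingleton ι hL hU f hreg hspan y hy k hk
    have e : (fun c : Fin 1 → X.presheaf.stalk y => ∑ i, c i • L.presheaf.germ (ι ⁻¹ᵁ U) y hy l) =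
        (LinearMap.toSpanSingleton (X.presheaf.stalk y) _ (L.presheaf.germ (ι ⁻¹ᵁ U) y hy l)) ∘
          (Equiv.funUnique (Fin 1) (X.presheaf.stalk y)) := funext fun c => Fin.sum_univ_one _
    exact (congrArg Function.Bijective e).mpr (hb.comp (Equiv.bijective _))
  have e : (fun a : Γ(X, V) => a • rs L h l) =
      Pinch.StalkFrame.comb (fun _ : Fin 1 => l) h ∘ (Equiv.funUnique (Fin 1) Γ(X, V)).symm :=
    funext fun a => (Fin.sum_univ_one fun i : Fin 1 =>
      (Equiv.funUnique (Fin 1) Γ(X, V)).symm a i • rs L h l).symm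
  exact (congrArg Function.Bijective e).mpr
    (Function.Bijective.comp ⟨Pinch.StalkFrame.comb_injective hf h, Pinch.StalkFrame.comb_surjective hf h⟩
      (Equiv.bijective _))

end Invertible

variable {X : Scheme.{u}} {L L' : X.Modules}

/-- Tensoring on the left is tensoring on the right. -/
def flipIso (L : X.Modules) : (DCoh.tensorBi (X := X)).obj L ≅ tensorBy L :=
  NatIso.ofComponents (fun M => comm L M) fun {M N} g => by
    exact (congrArg (· ≫ (comm L N).hom) (DerivedOX.PullTensor.tensorBi_obj_map L g)).trans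
      (comm_natural (𝟙 L) g)

/-- `- ⊗ L ⊣ - ⊗ L'`. -/
def adjInv (e : CohB1.tensorMod L L' ≅ Coh.structureModule X) : tensorBy L ⊣ tensorBy L' :=
  (CategoryTheory.Equivalence.mk (tensorBy L) (tensorBy L')
    (ProjCoh.Coherent.cancelNat e).symm (ProjCoh.Coherent.cancelNat (comm L' L ≪≫ e))).toAdjunction

/-- `ℋom(L, E) ≅ E ⊗ L'`. -/
def homIso [ModSite.HasSheafHom (O := X.sheaf) L] (e : CohB1.tensorMod L L' ≅ Coh.structureModule X)
    (E : X.Modules) : (ExtShStalk.Hom.R L).obj E ≅ CohB1.tensorMod E L' :=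
  ((ExtShStalk.Hom.adj L).rightAdjointUniq ((adjInv e).ofNatIsoLeft (flipIso L).symm)).app E

/-- The same for the internal hom of `DCoh`. -/
def homIso' [DCoh.HasSheafHom L] (e : CohB1.tensorMod L L' ≅ Coh.structureModule X) (E : X.Modules) :
    (DCoh.sheafHom L).obj E ≅ CohB1.tensorMod E L' :=
  ((DCoh.sheafHomAdj L).rightAdjointUniq ((adjInv e).ofNatIsoLeft (flipIso L).symm)).app E

/-- An invertible module has an internal hom. -/
theorem hasSheafHom (e : CohB1.tensorMod L L' ≅ Coh.structureModule X) : DCoh.HasSheafHom L :=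
  ⟨_, ⟨(adjInv e).ofNatIsoLeft (flipIso L).symm⟩⟩

end Groth.Agent.Lib.FundLocal.InvHom
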