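import Groth.Agent.Lib.FundLocal.ShAffine
import Groth.Agent.H95.ExtPowQCoh
import Groth.Agent.Lib.TensorMod.Basic
import Groth.Prelude.Def_ExtPow2

/-!
# Existence of exterior powers of quasi-coherent modules
-/

set_option autoImplicit false
set_option linter.style.haveILetI false
set_option linter.unusedVariables false
universe u

open CategoryTheory AlgebraicGeometry Opposite TopologicalSpace exteriorPower

noncomputable section

namespace Groth.Agent.Lib.FundLocal.ExtPowExists

open Groth.Agent.Lib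
open Groth.Agent.Lib.QCoh.Localizing

variable {X : Scheme.{u}} (E : X.Modules) (i : ℕ)

/-- Exterior powers of the sections. -/
abbrev A (U : X.Opens) : Type u := ↥(⋀[Γ(X, U)]^i Γ(E, U))

/-- Restriction. -/
def pr {U V : X.Opens} (h : V ≤ U) : A E i U →+ A E i V :=
  letI := (resR h).toAlgebra
  letI : Module Γ(X, U) Γ(E, V) := Module.compHom _ (resR h)
  haveI : IsScalarTower Γ(X, U) Γ(X, V) Γ(E, V) := IsScalarTower.of_algebraMap_smul fun _ _ => rfl
  (DeRhamAlg.Basic.semimap (B := Γ(X, V))
    ({ toFun := res E h, map_add' := map_add _, map_smul' := res_smul h } : Γ(E, U) →ₗ[Γ(X, U)] Γ(E, V))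
    i).toAddMonoidHom

theorem pr_ιMulti {U V : X.Opens} (h : V ≤ U) (v : Fin i → Γ(E, U)) :
    pr E i h (ιMulti _ i v) = ιMulti _ i (fun j => res E h (v j)) := by
  letI := (resR h).toAlgebra
  letI : Module Γ(X, U) Γ(E, V) := Module.compHom _ (resR h)
  haveI : IsScalarTower Γ(X, U) Γ(X, V) Γ(E, V) := IsScalarTower.of_algebraMap_smul fun _ _ => rfl
  exact DeRhamAlg.Basic.semimap_ιMulti
    ({ toFun := res E h, map_add' := map_add _, map_smul' := res_smul h } : Γ(E, U) →ₗ[Γ(X, U)] Γ(E, V)) v

theorem pr_smul {U V : X.Opens} (h : V ≤ U) (r : Γ(X, U)) (a : A E i U) :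
    pr E i h (r • a) = resR h r • pr E i h a := by
  letI := (resR h).toAlgebra
  letI : Module Γ(X, U) Γ(E, V) := Module.compHom _ (resR h)
  haveI : IsScalarTower Γ(X, U) Γ(X, V) Γ(E, V) := IsScalarTower.of_algebraMap_smul fun _ _ => rfl
  exact ((DeRhamAlg.Basic.semimap (B := Γ(X, V))
    ({ toFun := res E h, map_add' := map_add _, map_smul' := res_smul h } : Γ(E, U) →ₗ[Γ(X, U)] Γ(E, V))
    i).map_smul r a).trans (algebraMap_smul Γ(X, V) r _).symm

variable {E i} in
theorem gen_induction {U : X.Opens} {P : A E i U → Prop} (gen : ∀ v, P (ιMulti _ i v)) (zero : P 0)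
    (add : ∀ a b, P a → P b → P (a + b)) (smul : ∀ (c : Γ(X, U)) a, P a → P (c • a)) (a : A E i U) :
    P a := by
  have ha : a ∈ Submodule.span Γ(X, U) (Set.range (ιMulti Γ(X, U) i (M := Γ(E, U)))) := by
    rw [ιMulti_span]; trivial
  induction ha using Submodule.span_induction with
  | mem t ht => obtain ⟨v, rfl⟩ := ht; exact gen v
  | zero => exact zero
  | add a b _ _ ha hb => exact add _ _ ha hb
  | smul c a _ ha => exact smul c _ ha

theorem pr_self {U : X.Opens} (h : U ≤ U) (a : A E i U) : pr E i h a = a := by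
  induction a using gen_induction with
  | gen v => simp only [pr_ιMulti, res_self]
  | zero => exact map_zero _
  | add a b ha hb => rw [map_add, ha, hb]
  | smul c a ha => rw [pr_smul, ha, resR_self]

theorem pr_pr {U V W : X.Opens} (h : V ≤ U) (h' : W ≤ V) (a : A E i U) :
    pr E i h' (pr E i h a) = pr E i (h'.trans h) a := by
  induction a using gen_induction with
  | gen v => simp only [pr_ιMulti, res_res]
  | zero => simp only [map_zero]
  | add a b ha hb => simp only [map_add, ha, hb]
  | smul c a ha => rw [pr_smul, pr_smul, pr_smul, ha, resR_resR]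

theorem eq_pr {U V : X.Opens} (h : V ≤ U) (Φ : A E i U →+ A E i V)
    (hs : ∀ (r : Γ(X, U)) z, Φ (r • z) = resR h r • Φ z)
    (hι : ∀ v, Φ (ιMulti _ i v) = ιMulti _ i (fun j => res E h (v j))) (a : A E i U) :
    Φ a = pr E i h a := by
  induction a using gen_induction with
  | gen v => rw [hι, pr_ιMulti]
  | zero => simp only [map_zero]
  | add a b ha hb => simp only [map_add, ha, hb]
  | smul c a ha => rw [hs, pr_smul, ha]

/-- The presheaf of abelian groups. -/
def abPre : (X.Opens)ᵒᵖ ⥤ Ab.{u} where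
  obj U := AddCommGrpCat.of (A E i U.unop)
  map {U V} f := AddCommGrpCat.ofHom (pr E i f.unop.le)
  map_id U := AddCommGrpCat.ext fun a => pr_self E i _ a
  map_comp {U V W} f g := AddCommGrpCat.ext fun a => (pr_pr E i _ _ a).symm

instance (U : (X.Opens)ᵒᵖ) : Module (X.ringCatSheaf.obj.obj U) ((abPre E i).obj U) :=
  inferInstanceAs (Module Γ(X, U.unop) (A E i U.unop))

/-- The presheaf of modules. -/
def pre : CohB1.PMod X :=
  PresheafOfModules.ofPresheaf (R := X.ringCatSheaf.obj) (abPre E i)
    fun _ _ f r a => pr_smul E i f.unop.le r a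

/-- The exterior power. -/
def ext : X.Modules := (TensorMod.Basic.sh X).obj (pre E i)

/-- The unit. -/
def unit (U : X.Opens) : A E i U →ₗ[Γ(X, U)] Γ(ext E i, U) where
  toFun a := ((TensorMod.Basic.adj X).unit.app (pre E i)).app (op U) a
  map_add' := map_add _
  map_smul' r a := (((TensorMod.Basic.adj X).unit.app (pre E i)).app (op U)).hom.map_smul r a

theorem isUnit [E.IsQuasicoherent] : ShAffine.IsUnit (pr E i) (unit E i) where
  smul h r a := pr_smul E i h r a
  comp h h' a := pr_pr E i h h' a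
  nat h a := (PresheafOfModules.naturality_apply
    ((TensorMod.Basic.adj X).unit.app (pre E i)) (homOfLE h).op a).symm
  linj {U} a ha x hx := by
    haveI := (TensorMod.Basic.isLocBij_unit (pre E i)).1
    obtain ⟨V, f, hf, hxV⟩ := Presheaf.equalizerSieve_mem (Opens.grothendieckTopology X)
      ((PresheafOfModules.toPresheaf _).map ((TensorMod.Basic.adj X).unit.app (pre E i)))
      (X := op U) a (0 : A E i U) (ha.trans (map_zero _).symm) x hx
    exact ⟨V, f.le, hxV, hf.trans (map_zero (pr E i f.le))⟩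
  lsurj {U} t x hx := by
    haveI := (TensorMod.Basic.isLocBij_unit (pre E i)).2
    obtain ⟨V, f, ⟨a, ha⟩, hxV⟩ := Presheaf.imageSieve_mem (Opens.grothendieckTopology X)
      ((PresheafOfModules.toPresheaf _).map ((TensorMod.Basic.adj X).unit.app (pre E i)))
      (U := op U) t x hx
    exact ⟨V, f.le, a, hxV, ha⟩
  sep {U} hU f a ha := by
    haveI := hU.isLocalization_basicOpen f
    have hE := localizes_of_isAffineOpen E hU f
    obtain ⟨Φ, hs, hι, -, hsep⟩ := H95.ExtPowQCoh.exists_semimap (B := Γ(X, X.basicOpen f)) f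
      (res E (X.basicOpen_le f)) (res_smul _) hE.ext' hE.sep i
    refine hsep a (Eq.trans ?_ ha)
    exact eq_pr E i (X.basicOpen_le f) Φ hs hι a
  ext' {U} hU f b := by
    haveI := hU.isLocalization_basicOpen f
    have hE := localizes_of_isAffineOpen E hU f
    obtain ⟨Φ, hs, hι, hext, -⟩ := H95.ExtPowQCoh.exists_semimap (B := Γ(X, X.basicOpen f)) f
      (res E (X.basicOpen_le f)) (res_smul _) hE.ext' hE.sep i
    obtain ⟨n, a, ha⟩ := hext b
    exact ⟨n, a, (eq_pr E i (X.basicOpen_le f) Φ hs hι a).symm.trans ha⟩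

/-- Exterior powers of quasi-coherent modules exist. -/
theorem exists_isExtPow [E.IsQuasicoherent] (i : ℕ) : ∃ L : X.Modules, ExtPow.IsExtPow i E L := by
  let e : ∀ U : X.affineOpens, A E i U.1 ≃ₗ[Γ(X, U.1)] Γ(ext E i, U.1) := fun U =>
    LinearEquiv.ofBijective (unit E i U.1) (ShAffine.bijective (isUnit E i) U.2)
  refine ⟨ext E i, fun U => (e U).symm, fun U V h v => ?_⟩
  show res (ext E i) h (unit E i U.1 (ιMulti _ i v)) = unit E i V.1 (ιMulti _ i fun j => res E h (v j))
  rw [(isUnit E i).nat h, pr_ιMulti]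

end Groth.Agent.Lib.FundLocal.ExtPowExists
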