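import Groth.Agent.Lib.Modules.StalkModule
import Mathlib.Topology.Sheaves.SheafCondition.UniqueGluing

/-!
# A morphism of `O_X`-modules from its maps on stalks

A family of linear maps of stalks which carries the germs of a section to the germs of a section, locally,
is the family of stalk maps of a unique morphism.
-/

set_option autoImplicit false
universe u

open CategoryTheory AlgebraicGeometry Opposite TopologicalSpace

noncomputable section

namespace Groth.Agent.Lib.FundLocal.OfStalk

open Groth.Agent.Lib.Modules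

variable {X : Scheme.{u}} {M N : X.Modules}
  (f : ∀ x : X, M.presheaf.stalk x →ₗ[X.presheaf.stalk x] N.presheaf.stalk x)

theorem exists_section (hf : ∀ (x : X) (v : M.presheaf.stalk x), ∃ (U : X.Opens) (_ : x ∈ U) (s : Γ(M, U)) (t : Γ(N, U)),
      M.presheaf.germ U x ‹_› s = v ∧ ∀ (y : X) (hy : y ∈ U),
        f y (M.presheaf.germ U y hy s) = N.presheaf.germ U y hy t)
    (U : X.Opens) (s : Γ(M, U)) :
    ∃ t : Γ(N, U), ∀ (x : X) (hx : x ∈ U), f x (M.presheaf.germ U x hx s) = N.presheaf.germ U x hx t := by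
  have hloc : ∀ x : U, ∃ (W : X.Opens) (_ : x.1 ∈ W) (_ : W ≤ U) (t : Γ(N, W)),
      ∀ (y : X) (hy : y ∈ W) (hyU : y ∈ U), f y (M.presheaf.germ U y hyU s) = N.presheaf.germ W y hy t := by
    intro x
    obtain ⟨V, hxV, s', t', hs', ht'⟩ := hf x.1 (M.presheaf.germ U x.1 x.2 s)
    obtain ⟨W, hxW, iV, iU, hW⟩ := TopCat.Presheaf.germ_eq M.presheaf x.1 hxV x.2 s' s hs'
    refine ⟨W, hxW, iU.le, N.presheaf.map iV.op t', fun y hy hyU => ?_⟩
    rw [TopCat.Presheaf.germ_res_apply N.presheaf iV y hy, ← ht' y (iV.le hy),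
      ← TopCat.Presheaf.germ_res_apply M.presheaf iU y hy s, ← hW,
      TopCat.Presheaf.germ_res_apply M.presheaf iV y hy]
  choose W hxW hWU t ht using hloc
  obtain ⟨T, hT, -⟩ := TopCat.Sheaf.existsUnique_gluing' ⟨N.presheaf, N.isSheaf⟩ W U
    (fun x => homOfLE (hWU x)) (fun y hy => Opens.mem_iSup.2 ⟨⟨y, hy⟩, hxW ⟨y, hy⟩⟩) t (fun a b => by
      refine TopCat.Presheaf.section_ext ⟨N.presheaf, N.isSheaf⟩ _ _ _ fun y hy => ?_
      change N.presheaf.germ _ y hy (N.presheaf.map _ (t a)) = N.presheaf.germ _ y hy (N.presheaf.map _ (t b))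
      rw [TopCat.Presheaf.germ_res_apply, TopCat.Presheaf.germ_res_apply,
        ← ht a y (hy.1) (hWU a hy.1), ← ht b y (hy.2) (hWU a hy.1)])
  refine ⟨T, fun x hx => ?_⟩
  rw [ht ⟨x, hx⟩ x (hxW _) hx, ← hT ⟨x, hx⟩]
  exact TopCat.Presheaf.germ_res_apply N.presheaf _ x _ T

/-- The morphism with the given stalk maps. -/
theorem exists_hom (hf : ∀ (x : X) (v : M.presheaf.stalk x), ∃ (U : X.Opens) (_ : x ∈ U) (s : Γ(M, U)) (t : Γ(N, U)),
      M.presheaf.germ U x ‹_› s = v ∧ ∀ (y : X) (hy : y ∈ U),
        f y (M.presheaf.germ U y hy s) = N.presheaf.germ U y hy t) :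
    ∃ φ : M ⟶ N, ∀ x, StalkModule.stalkMapₗ φ x = f x := by
  choose g hg using exists_section f hf
  have ext : ∀ (U : X.Opens) (t t' : Γ(N, U)),
      (∀ x hx, N.presheaf.germ U x hx t = N.presheaf.germ U x hx t') → t = t' := fun U t t' =>
    TopCat.Presheaf.section_ext ⟨N.presheaf, N.isSheaf⟩ U t t'
  let η : M.presheaf ⟶ N.presheaf :=
    { app := fun U => AddCommGrpCat.ofHom
        { toFun := g U.unop
          map_zero' := ext _ _ _ fun x hx => (hg _ _ x hx).symm.trans
            (((congrArg (f x) (map_zero (M.presheaf.germ U.unop x hx).hom)).trans (map_zero (f x))).trans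
              (map_zero (N.presheaf.germ U.unop x hx).hom).symm)
          map_add' := fun a b => ext _ _ _ fun x hx => (hg _ _ x hx).symm.trans
            (((congrArg (f x) (map_add (M.presheaf.germ U.unop x hx).hom a b)).trans (map_add (f x) _ _)).trans
              ((congrArg₂ (· + ·) (hg _ _ x hx) (hg _ _ x hx)).trans
                (map_add (N.presheaf.germ U.unop x hx).hom _ _).symm)) }
      naturality := fun U V i => by
        refine AddCommGrpCat.hom_ext (AddMonoidHom.ext fun s => ?_)
        refine ext _ _ _ fun x hx => ?_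
        change N.presheaf.germ V.unop x hx (g V.unop (M.presheaf.map i s)) =
          N.presheaf.germ V.unop x hx (N.presheaf.map i (g U.unop s))
        rw [← hg, show i = i.unop.op from rfl, TopCat.Presheaf.germ_res_apply, TopCat.Presheaf.germ_res_apply,
          hg] }
  refine ⟨⟨PresheafOfModules.homMk η fun U r m => ?_⟩, fun x => LinearMap.ext fun v => ?_⟩
  · refine ext _ _ _ fun x hx => ?_
    change N.presheaf.germ U.unop x hx (g U.unop ((show Γ(X, U.unop) from r) • (show Γ(M, U.unop) from m))) =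
      N.presheaf.germ U.unop x hx ((show Γ(X, U.unop) from r) • g U.unop m)
    rw [← hg, StalkModule.germ_smul, StalkModule.germ_smul, _root_.map_smul, hg]
  · obtain ⟨U, hx, s, rfl⟩ := TopCat.Presheaf.exists_germ_eq M.presheaf v
    rw [StalkModule.stalkMapₗ_germ]
    exact (hg U s x hx).symm

end Groth.Agent.Lib.FundLocal.OfStalk
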