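import Groth.Agent.Lib.FundLocal.WedgeAlg
import Groth.Agent.Lib.GrassGen.ExtPowFree
import Groth.Agent.Lib.Modules.TensorAffine
import Groth.Agent.Lib.Modules.AffineHom
import Groth.Agent.Lib.ExtShStalk.Hom
import Groth.Agent.Lib.CurveBundle.Coherent

/-!
# `⋀^q E ≅ ℋom(⋀^p E, ⋀^n E)` for `E` locally free of rank `n = p + q`
-/

set_option autoImplicit false
set_option linter.style.haveILetI false
set_option linter.unusedSimpArgs false
universe u

open CategoryTheory CategoryTheory.Limits AlgebraicGeometry Opposite TopologicalSpace exteriorPower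
open scoped TensorProduct

noncomputable section

namespace Groth.Agent.Lib.FundLocal.WedgeDual

open Groth.Agent.Lib Modules
open Groth.Agent.Lib.TensorMod.Dual (rs rf rs_smul rs_rs rs_self)
open Groth.Agent.Lib.Modules.TensorSec (tens rs_tens app_tens)
open Groth.Agent.Lib.Modules.AffineHom (exists_affine)

variable {X : Scheme.{u}} {E L L' D : X.Modules} {p q n : ℕ}

/-- Sections of an exterior power are spanned by wedges. -/
theorem sec_induction {U : X.Opens} {k : ℕ} (φ : Γ(L, U) ≃ₗ[Γ(X, U)] ↥(⋀[Γ(X, U)]^k Γ(E, U)))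
    {P : Γ(L, U) → Prop} (gen : ∀ e, P (φ.symm (ιMulti _ k e))) (zero : P 0)
    (add : ∀ a b, P a → P b → P (a + b)) (smul : ∀ (c : Γ(X, U)) a, P a → P (c • a)) (s : Γ(L, U)) :
    P s := by
  obtain ⟨t, rfl⟩ := φ.symm.surjective s
  have ht : t ∈ Submodule.span Γ(X, U) (Set.range (ιMulti Γ(X, U) k (M := Γ(E, U)))) := by
    rw [ιMulti_span]; trivial
  induction ht using Submodule.span_induction with
  | mem t ht => obtain ⟨e, rfl⟩ := ht; exact gen e
  | zero => rwa [map_zero]
  | add a b _ _ ha hb => rw [map_add]; exact add _ _ ha hb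
  | smul c a _ ha => rw [map_smul]; exact smul c _ ha

/-- The wedge family of a basis is a frame of the exterior power. -/
theorem isFrame_wedge (φ : ∀ U : X.affineOpens, Γ(L, U.1) ≃ₗ[Γ(X, U.1)] ↥(⋀[Γ(X, U.1)]^p Γ(E, U.1)))
    (hφ : ∀ (U V : X.affineOpens) (h : V.1 ≤ U.1) (e : Fin p → Γ(E, U.1)),
      rs L h ((φ U).symm (ιMulti _ p e)) = (φ V).symm (ιMulti _ p fun j => rs E h (e j)))
    (A : X.affineOpens) (e : Fin n → Γ(E, A.1)) (he : TensorMod.Basis.IsBasis e) (x : X) (hx : x ∈ A.1) :
    ∃ b : Module.Basis (Set.powersetCard (Fin n) p) (X.presheaf.stalk x) (L.presheaf.stalk x),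
      ∀ S, b S = L.presheaf.germ A.1 x hx ((φ A).symm (ιMulti_family Γ(X, A.1) p e S)) := by
  classical
  let I := Set.powersetCard (Fin n) p
  let ε : I ≃ Fin (Fintype.card I) := Fintype.equivFin I
  let w : Fin (Fintype.card I) → Γ(L, A.1) := fun k => (φ A).symm (ιMulti_family Γ(X, A.1) p e (ε.symm k))
  have hw : Pinch.StalkFrame.IsFrame L A.1 w := GrassGen.ExtPowFree.isFrame_of_affine fun V hV => by
    let b : Module.Basis (Fin n) Γ(X, V.1) Γ(E, V.1) :=
      Module.Basis.ofEquivFun (LinearEquiv.ofBijective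
        (Fintype.linearCombination Γ(X, V.1) fun k => rs E hV (e k)) (by
          rw [show ⇑(Fintype.linearCombination Γ(X, V.1) fun k => rs E hV (e k)) = TensorMod.Basis.comb e hV from
            funext fun a => by simp only [Fintype.linearCombination_apply, TensorMod.Basis.comb]]
          exact he V.1 hV)).symm
    have hb : ⇑b = fun k => rs E hV (e k) := funext fun k => by
      simp only [b, Module.Basis.coe_ofEquivFun, LinearEquiv.symm_symm, LinearEquiv.ofBijective_apply]
      exact (Fintype.linearCombination_apply_single _ _ k 1).trans (one_smul _ _)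
    let B : Module.Basis (Fin (Fintype.card I)) Γ(X, V.1) Γ(L, V.1) :=
      ((b.exteriorPower p).map (φ V).symm).reindex ε
    have hB : ∀ k, B k = rs L hV (w k) := fun k => by
      show (((b.exteriorPower p).map (φ V).symm).reindex ε) k = _
      rw [Module.Basis.reindex_apply, Module.Basis.map_apply]
      refine Eq.trans ?_ (hφ A V hV _).symm
      rw [exteriorPower.basis_apply, hb]
      rfl
    rw [show Pinch.StalkFrame.comb w hV = B.equivFun.symm from funext fun c => by
      simp only [Pinch.StalkFrame.comb, Module.Basis.equivFun_symm_apply, hB]]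
    exact B.equivFun.symm.bijective
  let T : (Fin (Fintype.card I) → X.presheaf.stalk x) ≃ₗ[X.presheaf.stalk x] L.presheaf.stalk x :=
    LinearEquiv.ofBijective (Fintype.linearCombination (X.presheaf.stalk x) fun k => L.presheaf.germ A.1 x hx (w k))
      (by
        rw [show ⇑(Fintype.linearCombination (X.presheaf.stalk x) fun k => L.presheaf.germ A.1 x hx (w k)) =
          fun c : Fin (Fintype.card I) → X.presheaf.stalk x => ∑ i, c i • L.presheaf.germ A.1 x hx (w i) from
          funext fun c => Fintype.linearCombination_apply _ _ c]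
        exact hw x hx)
  refine ⟨(Module.Basis.ofEquivFun T.symm).reindex ε.symm, fun S => ?_⟩
  rw [Module.Basis.reindex_apply, Equiv.symm_symm, Module.Basis.coe_ofEquivFun, LinearEquiv.symm_symm]
  show Fintype.linearCombination _ _ (Pi.single (ε S) 1) = _
  rw [Fintype.linearCombination_apply_single, one_smul]
  show L.presheaf.germ A.1 x hx ((φ A).symm (ιMulti_family Γ(X, A.1) p e (ε.symm (ε S)))) = _
  rw [Equiv.symm_apply_apply]

/-- The wedge pairing of complementary exterior powers identifies one with the internal hom of the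
other into the determinant. -/
theorem nonempty_iso [IsLocallyNoetherian X] (hn : p + q = n) (hE : FlatMod.IsFinLocFreeOfRank n E)
    (hL : ExtPow.IsExtPow p E L) (hL' : ExtPow.IsExtPow q E L') (hD : ExtPow.IsExtPow n E D)
    [ModSite.HasSheafHom (O := X.sheaf) L] : Nonempty (L' ≅ (ExtShStalk.Hom.R L).obj D) := by
  classical
  have hLf := GrassGen.ExtPowFree.isFinLocFree (TensorMod.LocFree.of_rank hE) hL
  have hLf' := GrassGen.ExtPowFree.isFinLocFree (TensorMod.LocFree.of_rank hE) hL'
  haveI := CurveBundle.Coherent.isQCoh hLf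
  haveI := CurveBundle.Coherent.isQCoh hLf'
  obtain ⟨φ₀, hφ₀⟩ := hL
  obtain ⟨ψ₀, hψ₀⟩ := hL'
  obtain ⟨δ₀, hδ₀⟩ := hD
  let φ : ∀ U : X.affineOpens, Γ(L, U.1) ≃ₗ[Γ(X, U.1)] ↥(⋀[Γ(X, U.1)]^p Γ(E, U.1)) := φ₀
  let φ' : ∀ U : X.affineOpens, Γ(L', U.1) ≃ₗ[Γ(X, U.1)] ↥(⋀[Γ(X, U.1)]^q Γ(E, U.1)) := ψ₀
  let δ : ∀ U : X.affineOpens, Γ(D, U.1) ≃ₗ[Γ(X, U.1)] ↥(⋀[Γ(X, U.1)]^n Γ(E, U.1)) := δ₀
  let B : ∀ U : X.affineOpens, Γ(L, U.1) →ₗ[Γ(X, U.1)] Γ(L', U.1) →ₗ[Γ(X, U.1)] Γ(D, U.1) := fun U =>
    ((WedgeAlg.pairing hn).compl₁₂ (φ U).toLinearMap (φ' U).toLinearMap).compr₂ (δ U).symm.toLinearMap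
  have hB : ∀ (U : X.affineOpens) (u : Fin p → Γ(E, U.1)) (v : Fin q → Γ(E, U.1)),
      B U ((φ U).symm (ιMulti _ p u)) ((φ' U).symm (ιMulti _ q v)) =
        (δ U).symm (ιMulti _ n (Fin.append u v ∘ Fin.cast hn.symm)) := fun U u v => by
    simp only [B, LinearMap.compr₂_apply, LinearMap.compl₁₂_apply, LinearEquiv.coe_coe,
      LinearEquiv.apply_symm_apply, WedgeAlg.pairing_ιMulti]
  have rs_B : ∀ (U V : X.affineOpens) (h : V.1 ≤ U.1) (a : Γ(L, U.1)) (b : Γ(L', U.1)),
      rs D h (B U a b) = B V (rs L h a) (rs L' h b) := by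
    intro U V h a b
    induction a using sec_induction (φ U) with
    | gen u =>
      induction b using sec_induction (φ' U) with
      | gen v =>
        rw [hB, show rs L h ((φ U).symm (ιMulti _ p u)) = (φ V).symm (ιMulti _ p fun j => rs E h (u j))
          from hφ₀ U V h u, show rs L' h ((φ' U).symm (ιMulti _ q v)) =
          (φ' V).symm (ιMulti _ q fun j => rs E h (v j)) from hψ₀ U V h v, hB]
        refine (hδ₀ U V h _).trans (congrArg _ (congrArg _ (funext fun j => ?_)))
        show rs E h (Fin.append u v (Fin.cast hn.symm j)) = Fin.append _ _ (Fin.cast hn.symm j)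
        induction Fin.cast hn.symm j using Fin.addCases with
        | left i => simp only [Fin.append_left]
        | right i => simp only [Fin.append_right]
      | zero => simp only [map_zero, TensorSec.rs_zero]
      | add a b ha hb => simp only [map_add, TensorSec.rs_add, ha, hb]
      | smul c a ha => simp only [map_smul, rs_smul, ha]
    | zero => simp only [map_zero, TensorSec.rs_zero, LinearMap.zero_apply]
    | add a a' ha ha' => simp only [map_add, TensorSec.rs_add, LinearMap.add_apply, ha, ha']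
    | smul c a ha => simp only [map_smul, rs_smul, LinearMap.smul_apply, ha]
  let G : ∀ U : X.affineOpens, Γ(L, U.1) ⊗[Γ(X, U.1)] Γ(L', U.1) ≃ₗ[Γ(X, U.1)] Γ(CohB1.tensorMod L L', U.1) :=
    fun U => LinearEquiv.ofBijective (TensorAffine.gamma L L' U.1) (TensorAffine.bijective_gamma U.2)
  obtain ⟨β, hβ⟩ := AffineHom.exists_hom_of_affine (fun U => TensorProduct.lift (B U) ∘ₗ (G U).symm.toLinearMap)
    fun U V h m => by
      obtain ⟨z, rfl⟩ := (G U).surjective m
      induction z using TensorProduct.induction_on with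
      | zero => simp only [map_zero, TensorSec.rs_zero]
      | add a b ha hb => simp only [map_add, TensorSec.rs_add, ha, hb]
      | tmul a b =>
        have e : rs (CohB1.tensorMod L L') h (G U (a ⊗ₜ b)) = G V (rs L h a ⊗ₜ rs L' h b) := rs_tens h a b
        rw [e]
        simp only [LinearMap.comp_apply, LinearEquiv.coe_coe, LinearEquiv.symm_apply_apply, TensorProduct.lift.tmul]
        exact rs_B U V h a b
  have hpair : ∀ (U : X.affineOpens) a b, TensorMod.Free.pairM β a b = B U a b := fun U a b => by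
    rw [← app_tens, hβ]
    show TensorProduct.lift (B U) ((G U).symm (G U (a ⊗ₜ b))) = _
    rw [LinearEquiv.symm_apply_apply, TensorProduct.lift.tmul]
  let ψ : L' ⟶ (ExtShStalk.Hom.R L).obj D := (ExtShStalk.Hom.adj L).homEquiv L' D β
  have hψ : TensorMod.Basic.tmap (𝟙 L) ψ ≫ ExtShStalk.Hom.ε L D = β := by
    refine Eq.trans ?_ ((ExtShStalk.Hom.adj L).homEquiv L' D |>.symm_apply_apply β)
    rw [Adjunction.homEquiv_counit]
    exact (congrArg (· ≫ ExtShStalk.Hom.ε L D) (DerivedOX.PullTensor.tensorBi_obj_map L ψ)).symm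
  haveI : IsIso ψ := by
    refine (StalkModule.isIso_iff_stalkMapₗ_bijective ψ).2 fun x => ?_
    have hσ := ExtShStalk.Hom.σ_bijective L (CurveBundle.Coherent.isCoh hLf) D x
    refine (Function.Bijective.of_comp_iff' hσ _).1 ?_
    rw [show ⇑(ExtShStalk.Hom.σ L D x) ∘ ⇑(StalkModule.stalkMapₗ ψ x) = ZarCoh.Exchange.HomAdj.stalkPair β x from
      funext fun v => by
        show ZarCoh.Exchange.HomAdj.stalkPair (ExtShStalk.Hom.ε L D) x _ = _
        rw [← ExtShStalk.Hom.stalkPair_tmap, hψ]]
    obtain ⟨W, hxW, ⟨i⟩⟩ := hE x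
    obtain ⟨e₀, he₀⟩ := TensorMod.Basis.exists_basis_of_iso i
    obtain ⟨A, hAW, hxA⟩ := exists_affine hxW
    let e := fun k => rs E hAW (e₀ k)
    have he : TensorMod.Basis.IsBasis e := he₀.res hAW
    obtain ⟨bL, hbL⟩ := isFrame_wedge φ hφ₀ A e he x hxA
    obtain ⟨bL', hbL'⟩ := isFrame_wedge φ' hψ₀ A e he x hxA
    obtain ⟨bD, hbD⟩ := isFrame_wedge δ hδ₀ A e he x hxA
    let g := D.presheaf.germ A.1 x hxA ((δ A).symm (ιMulti _ n e))
    have hg : ∀ T, bD T = g := fun T => by
      rw [hbD]
      refine congrArg _ (congrArg _ (congrArg (ιMulti Γ(X, A.1) n) ?_))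
      have hT : ⇑(Set.powersetCard.ofFinEmbEquiv.symm T) = id := by
        refine ((Set.powersetCard.ofFinEmbEquiv.symm T).strictMono.range_inj strictMono_id).1 ?_
        rw [Set.range_id]
        exact Set.range_eq_univ.2 (Finite.surjective_of_injective
          (Set.powersetCard.ofFinEmbEquiv.symm T).injective)
      rw [hT, Function.comp_id]
    have hg1 : Function.Bijective fun a : X.presheaf.stalk x => a • g := by
      have T₀ : Set.powersetCard (Fin n) n := ⟨Finset.univ, by simp⟩
      haveI : Unique (Set.powersetCard (Fin n) n) :=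
        { default := T₀
          uniq := fun T => Subtype.ext ((Finset.card_eq_iff_eq_univ _).1 (by
            rw [T.2, Fintype.card_fin]) |>.trans ((Finset.card_eq_iff_eq_univ _).1 (by
            rw [T₀.2, Fintype.card_fin])).symm) }
      refine ⟨fun a a' h => ?_, fun v => ⟨bD.repr v default, ?_⟩⟩
      · have := congrArg (fun v => bD.repr v default) h
        simpa [← hg default] using this
      · show bD.repr v default • g = v
        rw [← hg default]
        simpa using bD.sum_repr v
    have hval : ∀ S T, ZarCoh.Exchange.HomAdj.stalkPair β x (bL' T) (bL S) =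
        D.presheaf.germ A.1 x hxA ((δ A).symm
          (WedgeAlg.pairing hn (ιMulti_family Γ(X, A.1) p e S) (ιMulti_family Γ(X, A.1) q e T))) := fun S T => by
      rw [hbL, hbL', ZarCoh.Exchange.HomAdj.stalkPair_germ, hpair]
      simp only [B, LinearMap.compr₂_apply, LinearMap.compl₁₂_apply, LinearEquiv.coe_coe, LinearEquiv.apply_symm_apply]
    let c : Set.powersetCard (Fin n) q → Set.powersetCard (Fin n) p := fun T =>
      ⟨T.1ᶜ, by
        show T.1ᶜ.card = p
        rw [Finset.card_compl, Fintype.card_fin, T.2]; omega⟩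
    let c' : Set.powersetCard (Fin n) p → Set.powersetCard (Fin n) q := fun S =>
      ⟨S.1ᶜ, by
        show S.1ᶜ.card = q
        rw [Finset.card_compl, Fintype.card_fin, S.2]; omega⟩
    have hoff : ∀ S T, S ≠ c T → ZarCoh.Exchange.HomAdj.stalkPair β x (bL' T) (bL S) = 0 := fun S T h => by
      rw [hval, (WedgeAlg.pairing_basis (R := Γ(X, A.1)) hn e S T).1 fun h' => h (Subtype.ext (by
        show S.1 = T.1ᶜ
        rw [h', compl_compl])), map_zero, map_zero]
    have hdiag : ∀ T, ∃ u : (X.presheaf.stalk x)ˣ,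
        ZarCoh.Exchange.HomAdj.stalkPair β x (bL' T) (bL (c T)) = (u : X.presheaf.stalk x) • g := fun T => by
      obtain ⟨s, hs⟩ := (WedgeAlg.pairing_basis (R := Γ(X, A.1)) hn e (c T) T).2 (compl_compl _).symm
      rw [hval, hs]
      rcases Int.units_eq_one_or s with rfl | rfl
      · exact ⟨1, by rw [one_smul, Units.val_one, one_smul]⟩
      · exact ⟨-1, by rw [Units.neg_smul, one_smul, map_neg, map_neg, Units.val_neg, Units.val_one, neg_smul, one_smul]⟩
    choose u hu using hdiag
    have hexp : ∀ (v : L'.presheaf.stalk x) (T : Set.powersetCard (Fin n) q),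
        ZarCoh.Exchange.HomAdj.stalkPair β x v (bL (c T)) =
          (bL'.repr v T * (u T : X.presheaf.stalk x)) • g := fun v T => by
      conv_lhs => rw [← bL'.sum_repr v, map_sum]
      rw [LinearMap.sum_apply, Finset.sum_eq_single T]
      · rw [map_smul, LinearMap.smul_apply, hu, smul_smul]
      · intro T' _ hne
        rw [map_smul, LinearMap.smul_apply, hoff _ _ fun h => hne (Subtype.ext
          (compl_injective (congrArg Subtype.val h).symm)), smul_zero]
      · exact fun h => absurd (Finset.mem_univ T) h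
    refine ⟨fun v v' h => bL'.ext_elem fun T => ?_, fun ℓ => ?_⟩
    · have h1 := LinearMap.congr_fun h (bL (c T))
      rw [hexp, hexp] at h1
      exact (u T).isUnit.mul_left_injective (hg1.1 h1)
    · choose r hr using fun S => hg1.2 (ℓ (bL S))
      refine ⟨bL'.equivFun.symm fun T => r (c T) * ((u T)⁻¹ : (X.presheaf.stalk x)ˣ), bL.ext fun S => ?_⟩
      have hS : c (c' S) = S := Subtype.ext (compl_compl _)
      rw [← hS, hexp, ← hr]
      rw [show bL'.repr (bL'.equivFun.symm fun T => r (c T) * ((u T)⁻¹ : (X.presheaf.stalk x)ˣ)) (c' S) =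
        r (c (c' S)) * ((u (c' S))⁻¹ : (X.presheaf.stalk x)ˣ) from
          congrFun (bL'.equivFun.apply_symm_apply _) (c' S), mul_assoc, Units.inv_mul, mul_one]
  exact ⟨asIso ψ⟩

end Groth.Agent.Lib.FundLocal.WedgeDual
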