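import Groth.Agent.Lib.FundLocal.Gen
import Groth.Agent.Lib.CurveBundle.Coherent
import Groth.Agent.Lib.Kaehler.SmoothChart
import Groth.Agent.Lib.Kaehler.DOmega
import Mathlib.AlgebraicGeometry.Morphisms.Smooth

/-!
# The rank of the differentials and the length of a regular sequence cutting out a closed subscheme
-/

set_option autoImplicit false
set_option linter.style.haveILetI false
universe u

open CategoryTheory CategoryTheory.Limits AlgebraicGeometry Opposite TopologicalSpace

noncomputable section

namespace Groth.Agent.Lib.FundLocal.Rank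

open Groth.Agent.Lib OmegaSh

/-- The differentials of a smooth morphism of relative dimension `n` are free of rank `n` locally. -/
theorem isFinLocFreeOfRank_omega {X S : Scheme.{u}} (f : X ⟶ S) [QuasiSeparated f] (n : ℕ)
    [SmoothOfRelativeDimension n f] : FlatMod.IsFinLocFreeOfRank n (Omega.sheaf f) := fun x => by
  obtain ⟨V, hV, U, hU, hx, e, hs⟩ :=
    SmoothOfRelativeDimension.exists_isStandardSmoothOfRelativeDimension (n := n) (f := f) x
  haveI : Nonempty U := ⟨⟨x, hx⟩⟩
  exact ⟨U, hx, Kaehler.SmoothChart.nonempty_restrict_free hV hU e hs (Kaehler.DOmega.isUniversal_dOmega f)⟩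

variable {P X : Scheme.{u}} (ι : X ⟶ P) [IsClosedImmersion ι] {r : ℕ}

/-- The classes of a regular sequence cutting out `X` are a basis of the stalks of the conormal sheaf. -/
theorem nonempty_basis {V : P.Opens} (hV : IsAffineOpen V) (f : Fin r → Γ(P, V))
    (hreg : RingTheory.Sequence.IsWeaklyRegular Γ(P, V) (List.ofFn f))
    (hspan : RingHom.ker (ι.app V).hom = Ideal.span (Set.range f)) (x : X) (hx : ι.base x ∈ V) :
    Nonempty (Module.Basis (Fin r) (X.presheaf.stalk x) ((Omega.conormal ι).presheaf.stalk x)) := by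
  let B := Γ(X, ι ⁻¹ᵁ V)
  have hch : Conormal92.Affine.IsChart ι V := Conormal92.Affine.isChart_of_closed ι hV
  let I := RingHom.ker (ι.app V).hom
  have hmem : ∀ i, f i ∈ I := fun i => hspan.ge (Ideal.subset_span ⟨i, rfl⟩)
  choose k hk using fun i => (Conormal92.Affine.exists_idealSect_iff hV (f i)).2 (hmem i)
  have hI : I ≠ ⊤ := by
    intro h
    have h1 : (1 : Γ(P, V)) ∈ I := h ▸ Submodule.mem_top
    rw [RingHom.mem_ker, map_one] at h1
    have h2 := congrArg (X.presheaf.germ (ι ⁻¹ᵁ V) x hx) h1
    rw [map_one, map_zero] at h2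
    exact one_ne_zero h2
  obtain ⟨b, hb⟩ := Groth.Agent.S18939.result hI r (fun i => ⟨f i, hmem i⟩)
    (Groth.Agent.S15821.result _ _ hreg).1 hspan.symm
  letI := Conormal92.Affine.moduleConormal ι V
  obtain ⟨e, he⟩ := Conormal92.Affine.exists_cotangentEquiv hch
  let c : Fin r → Γ(Omega.conormal ι, ι ⁻¹ᵁ V) := fun i => conormalSect ι V (k i)
  have hec : ∀ i, e (b i) = c i := fun i => by
    rw [hb]
    refine Eq.trans (congrArg e (congrArg _ ?_)) (he (k i) ((hk i).symm ▸ hmem i))
    exact Subtype.ext (hk i).symm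
  have hcB : Function.Bijective (Fintype.linearCombination B c) := by
    constructor
    · rw [injective_iff_map_eq_zero]
      intro v hv
      choose a ha using fun i => hch.surj (v i)
      have : e (∑ i, (Ideal.Quotient.mk I (a i)) • b i) = 0 := by
        rw [map_sum]
        refine Eq.trans ?_ hv
        rw [Fintype.linearCombination_apply]
        refine Finset.sum_congr rfl fun i _ => ?_
        rw [← Ideal.Quotient.algebraMap_eq, algebraMap_smul, _root_.map_smul, hec, ← ha i]
        rfl
      have h2 := (Fintype.linearIndependent_iff.1 b.linearIndependent) _ (e.map_eq_zero_iff.1 this)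
      refine funext fun i => ?_
      rw [← ha i]
      exact Ideal.Quotient.eq_zero_iff_mem.1 (h2 i)
    · intro y
      obtain ⟨z, rfl⟩ := e.surjective y
      choose a ha using fun i => Ideal.Quotient.mk_surjective (b.repr z i)
      refine ⟨fun i => ι.app V (a i), ?_⟩
      conv_rhs => rw [← b.sum_repr z, map_sum]
      rw [Fintype.linearCombination_apply]
      refine Finset.sum_congr rfl fun i _ => ?_
      rw [← ha i, ← Ideal.Quotient.algebraMap_eq, algebraMap_smul, _root_.map_smul, hec]
      rfl
  haveI := Conormal92.Affine.isQCoh_conormal ι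
  have hW : IsAffineOpen (ι ⁻¹ᵁ V) := hV.preimage ι
  letI := TopCat.Presheaf.algebra_section_stalk X.presheaf (⟨x, hx⟩ : (ι ⁻¹ᵁ V : X.Opens))
  letI := StalkLoc.Basic.moduleSections (Omega.conormal ι) (U := ι ⁻¹ᵁ V) hx
  haveI := StalkLoc.Basic.isScalarTower_sections (Omega.conormal ι) (U := ι ⁻¹ᵁ V) hx
  haveI := hW.isLocalization_stalk ⟨x, hx⟩
  haveI := StalkLoc.Basic.isLocalizedModule_germ (M := Omega.conormal ι) hW hx
  exact ⟨(Module.Basis.ofEquivFun (LinearEquiv.ofBijective _ hcB).symm).ofIsLocalizedModule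
    (X.presheaf.stalk x) (hW.primeIdealOf ⟨x, hx⟩).asIdeal.primeCompl
    (StalkLoc.Basic.germₗ (Omega.conormal ι) (U := ι ⁻¹ᵁ V) hx)⟩

/-- The length of such a sequence is the rank of the conormal sheaf. -/
theorem length_eq {V : P.Opens} (hV : IsAffineOpen V) (f : Fin r → Γ(P, V))
    (hreg : RingTheory.Sequence.IsWeaklyRegular Γ(P, V) (List.ofFn f))
    (hspan : RingHom.ker (ι.app V).hom = Ideal.span (Set.range f)) {x : X} (hx : ι.base x ∈ V)
    {W : X.Opens} {a : ℕ} (i : (Omega.conormal ι).restrict W.ι ≅ FlatMod.freeMod (↑W) a) (hxW : x ∈ W) :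
    r = a := by
  obtain ⟨b⟩ := nonempty_basis ι hV f hreg hspan x hx
  obtain ⟨s, hs⟩ := CurveBundle.Coherent.exists_basis_sections i
  have h1 := Module.finrank_eq_card_basis b
  have h2 := Module.finrank_eq_card_basis (Module.Basis.mk (hs x hxW).1 (hs x hxW).2.ge)
  rw [h1, Fintype.card_fin, Fintype.card_fin] at h2
  exact h2

end Groth.Agent.Lib.FundLocal.Rank
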