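import Groth.Agent.Lib.Cyc.CH.DetAtlas
import Groth.Agent.Lib.Modules.TensorAffine
import Groth.Agent.Lib.ExtShStalk.Main
import Groth.Agent.Lib.QCoh.Closure
import Mathlib.LinearAlgebra.Matrix.Block

/-!
# The determinant of a short exact sequence
-/

set_option autoImplicit false
set_option linter.style.haveILetI false
universe u

open CategoryTheory CategoryTheory.Limits AlgebraicGeometry Opposite TopologicalSpace
open scoped TensorProduct

noncomputable section

namespace Groth.Agent.Lib.FundLocal.DetSES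

open Groth.Agent.Lib Groth.Agent.Lib.Modules
open Groth.Agent.Lib.TensorMod.Dual (rs rf rs_rs rs_smul)
open Groth.Agent.Lib.RefHull.SecHom (germ_rs germ_rf)

section Algebra

variable {R C M B : Type*} [CommRing R] [AddCommGroup C] [Module R C] [AddCommGroup M] [Module R M]
  [AddCommGroup B] [Module R B] {c m : ℕ} (a : C →ₗ[R] M) (p : M →ₗ[R] B)

/-- A basis adapted to a short exact sequence. -/
theorem exists_basis (ha : Function.Injective a) (hex : Function.Exact a p) (bC : Module.Basis (Fin c) R C)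
    (bB : Module.Basis (Fin m) R B) (s : Fin m → M) (hs : ∀ j, p (s j) = bB j) :
    ∃ bM : Module.Basis (Fin (c + m)) R M, ∀ i, bM i = Fin.append (fun i => a (bC i)) s i := by
  refine ⟨Module.Basis.mk (v := Fin.append (fun i => a (bC i)) s) ?_ ?_, fun i => Module.Basis.mk_apply _ _ _⟩
  · rw [Fintype.linearIndependent_iff]
    intro g hg
    have h0 : ∀ x, p (a x) = 0 := fun x => (hex _).2 ⟨x, rfl⟩
    simp only [Fin.sum_univ_add, Fin.append_left, Fin.append_right] at hg
    have h1 : ∀ j, g (Fin.natAdd c j) = 0 := by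
      have := congrArg p hg
      simp only [map_add, map_sum, map_smul, h0, hs, smul_zero, Finset.sum_const_zero, zero_add, map_zero] at this
      exact Fintype.linearIndependent_iff.1 bB.linearIndependent _ this
    simp only [h1, zero_smul, Finset.sum_const_zero, add_zero, ← map_smul, ← map_sum] at hg
    have h2 := Fintype.linearIndependent_iff.1 bC.linearIndependent _ (ha (hg.trans (map_zero a).symm))
    exact fun i => Fin.addCases h2 h1 i
  · intro x _
    have hx : x - ∑ j, bB.repr (p x) j • s j ∈ LinearMap.range a := (hex _).1 (by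
      rw [map_sub, map_sum]
      simp only [map_smul, hs, bB.sum_repr, sub_self])
    obtain ⟨z, hz⟩ := hx
    have hrep : x = a z + ∑ j, bB.repr (p x) j • s j := by rw [hz, sub_add_cancel]
    rw [hrep, ← bC.sum_repr z, map_sum]
    refine Submodule.add_mem _ (Submodule.sum_mem _ fun i _ => ?_) (Submodule.sum_mem _ fun j _ => ?_)
    · rw [map_smul]
      exact Submodule.smul_mem _ _ (Submodule.subset_span ⟨Fin.castAdd m i, Fin.append_left _ _ _⟩)
    · exact Submodule.smul_mem _ _ (Submodule.subset_span ⟨Fin.natAdd c j, Fin.append_right _ _ _⟩)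

/-- The determinant in an adapted basis is the product. -/
theorem det_append (hpa : ∀ x, p (a x) = 0) (bC : Module.Basis (Fin c) R C) (bB : Module.Basis (Fin m) R B)
    (bM : Module.Basis (Fin (c + m)) R M) (hl : ∀ i, bM (Fin.castAdd m i) = a (bC i))
    (hr : ∀ j, p (bM (Fin.natAdd c j)) = bB j) (vC : Fin c → C) (v : Fin (c + m) → M)
    (hv : ∀ i, v (Fin.castAdd m i) = a (vC i)) :
    bM.det v = bC.det vC * bB.det fun j => p (v (Fin.natAdd c j)) := by
  classical
  have key : ∀ z, bM.repr (a z) = ∑ i, bC.repr z i • Finsupp.single (Fin.castAdd m i) (1 : R) := fun z => by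
    conv_lhs => rw [← bC.sum_repr z]
    simp only [map_sum, map_smul, ← hl, Module.Basis.repr_self]
  have hp : ∀ (x : M) (j : Fin m), bB.repr (p x) j = bM.repr x (Fin.natAdd c j) := fun x j => by
    have e : p x = ∑ j, bM.repr x (Fin.natAdd c j) • bB j := by
      conv_lhs => rw [← bM.sum_repr x]
      rw [map_sum, Fin.sum_univ_add]
      simp only [map_smul, hl, hpa, hr, smul_zero, Finset.sum_const_zero, zero_add]
    rw [e, bB.repr_sum_self]
  rw [Module.Basis.det_apply, Module.Basis.det_apply, Module.Basis.det_apply,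
    ← Matrix.det_submatrix_equiv_self finSumFinEquiv (bM.toMatrix v),
    show (bM.toMatrix v).submatrix finSumFinEquiv finSumFinEquiv =
      Matrix.fromBlocks (bC.toMatrix vC) (Matrix.of fun i j => bM.repr (v (Fin.natAdd c j)) (Fin.castAdd m i))
        0 (bB.toMatrix fun j => p (v (Fin.natAdd c j))) from ?_]
  · exact Matrix.det_fromBlocks_zero₂₁ _ _ _
  · ext (i | i) (j | j)
    · simp [Module.Basis.toMatrix_apply, hv, key, Finsupp.single_apply]
    · simp [Module.Basis.toMatrix_apply]
    · simp [Module.Basis.toMatrix_apply, hv, key, Finsupp.single_apply, Fin.ext_iff]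
      exact Finset.sum_eq_zero fun k _ => if_neg (by omega)
    · simp [Module.Basis.toMatrix_apply, hp]

end Algebra

variable {X : Scheme.{u}}

/-- Determinant charts of the middle term. -/
theorem nonempty_detAtlas {S : ShortComplex X.Modules} (hS : S.ShortExact) {c m n : ℕ} (hn : c + m = n)
    {L₁ L₃ : X.Modules} (A : Cyc.CH.DetAtlas c S.X₁ L₁) (B : Cyc.CH.DetAtlas m S.X₃ L₃) :
    Nonempty (Cyc.CH.DetAtlas n S.X₂ (CohB1.tensorMod L₁ L₃)) := by
  classical
  subst hn
  haveI := hS.epi_g
  have hinj : ∀ y, Function.Injective (StalkModule.stalkMapₗ S.f y) := fun y =>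
    (StalkModule.mono_iff_stalkMapₗ_injective S.f).1 hS.mono_f y
  have hex : ∀ y, Function.Exact (StalkModule.stalkMapₗ S.f y) (StalkModule.stalkMapₗ S.g y) := fun y =>
    (ShortComplex.ShortExact.moduleCat_exact_iff_function_exact _).1
      (hS.exact.map (StalkModule.stalkModFunctor X y))
  choose V hVU hxV t ht using fun (x : X) (j : Fin m) =>
    QCoh.Closure.exists_local_lift_of_epi S.g (B.e x j) (B.mem x)
  let U : X → X.Opens := fun x =>
    A.U x ⊓ B.U x ⊓ ⟨⋂ j, (V x j : Set X), isOpen_iInter_of_finite fun j => (V x j).2⟩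
  have hUA : ∀ x, U x ≤ A.U x := fun x => inf_le_left.trans inf_le_left
  have hUB : ∀ x, U x ≤ B.U x := fun x => inf_le_left.trans inf_le_right
  have hUV : ∀ x j, U x ≤ V x j := fun x j y hy => Set.mem_iInter.1 (Opens.mem_inf.1 hy).2 j
  let s : ∀ x, Fin m → Γ(S.X₂, U x) := fun x j => rs S.X₂ (hUV x j) (t x j)
  let e : ∀ x, Fin (c + m) → Γ(S.X₂, U x) := fun x =>
    Fin.append (fun i => S.f.app (U x) (rs S.X₁ (hUA x) (A.e x i))) (s x)
  have hs : ∀ x y (hy : y ∈ U x) j, StalkModule.stalkMapₗ S.g y (S.X₂.presheaf.germ (U x) y hy (s x j)) =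
      B.b x y (hUB x hy) j := fun x y hy j => by
    rw [germ_rs, StalkModule.stalkMapₗ_germ, ht, B.hb]
    exact TopCat.Presheaf.germ_res_apply S.X₃.presheaf _ y _ _
  have hf : ∀ x y (hy : y ∈ U x) i, S.X₂.presheaf.germ (U x) y hy (S.f.app (U x) (rs S.X₁ (hUA x) (A.e x i))) =
      StalkModule.stalkMapₗ S.f y (A.b x y (hUA x hy) i) := fun x y hy i => by
    rw [← StalkModule.stalkMapₗ_germ, germ_rs, A.hb]
  choose b hb using fun (x y : X) (hy : y ∈ U x) => exists_basis (StalkModule.stalkMapₗ S.f y)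
    (StalkModule.stalkMapₗ S.g y) (hinj y) (hex y) (A.b x y (hUA x hy)) (B.b x y (hUB x hy))
    (fun j => S.X₂.presheaf.germ (U x) y hy (s x j)) (hs x y hy)
  have hl : ∀ x y hy i, b x y hy (Fin.castAdd m i) = StalkModule.stalkMapₗ S.f y (A.b x y (hUA x hy) i) :=
    fun x y hy i => by rw [hb, Fin.append_left]
  have hr : ∀ x y hy j, StalkModule.stalkMapₗ S.g y (b x y hy (Fin.natAdd c j)) = B.b x y (hUB x hy) j :=
    fun x y hy j => by rw [hb, Fin.append_right]; exact hs x y hy j
  let g : ∀ x, Γ(CohB1.tensorMod L₁ L₃, U x) := fun x =>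
    TensorSec.tens (rs L₁ (hUA x) (A.g x)) (rs L₃ (hUB x) (B.g x))
  have hg : ∀ x y (hy : y ∈ U x), DerivedOX.TensorSheaf.tensorStalk y L₁ L₃
      ((CohB1.tensorMod L₁ L₃).presheaf.germ (U x) y hy (g x)) =
      L₁.presheaf.germ (A.U x) y (hUA x hy) (A.g x) ⊗ₜ[X.presheaf.stalk y]
        L₃.presheaf.germ (B.U x) y (hUB x hy) (B.g x) := fun x y hy => by
    rw [TensorAffine.tensorStalk_germ_tens, germ_rs, germ_rs]
  refine ⟨{ U := U, mem := fun x => ⟨⟨A.mem x, B.mem x⟩, Set.mem_iInter.2 (hxV x)⟩, e := e, g := g, b := b,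
            hb := fun x y hy i => ?_, gen := fun x y hy => ?_, trans := fun x x' y hy hy' => ?_ }⟩
  · rw [hb]
    refine Fin.addCases (fun i => ?_) (fun j => ?_) i
    · rw [Fin.append_left]
      show _ = S.X₂.presheaf.germ (U x) y hy (Fin.append _ _ (Fin.castAdd m i))
      rw [Fin.append_left, hf]
    · rw [Fin.append_right]
      show _ = S.X₂.presheaf.germ (U x) y hy (Fin.append _ _ (Fin.natAdd c j))
      rw [Fin.append_right]
  · let eA := LinearEquiv.ofBijective
      (LinearMap.toSpanSingleton (X.presheaf.stalk y) _ (L₁.presheaf.germ (A.U x) y (hUA x hy) (A.g x)))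
      (A.gen x y (hUA x hy))
    let eB := LinearEquiv.ofBijective
      (LinearMap.toSpanSingleton (X.presheaf.stalk y) _ (L₃.presheaf.germ (B.U x) y (hUB x hy) (B.g x)))
      (B.gen x y (hUB x hy))
    let T := (TensorProduct.lid (X.presheaf.stalk y) (X.presheaf.stalk y)).symm ≪≫ₗ TensorProduct.congr eA eB
    have hT : ∀ r, T r = r • DerivedOX.TensorSheaf.tensorStalk y L₁ L₃
        ((CohB1.tensorMod L₁ L₃).presheaf.germ (U x) y hy (g x)) := fun r => by
      rw [hg]
      show TensorProduct.congr eA eB (1 ⊗ₜ[X.presheaf.stalk y] r) = _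
      rw [TensorProduct.congr_tmul]
      rw [LinearEquiv.ofBijective_apply, LinearEquiv.ofBijective_apply, LinearMap.toSpanSingleton_apply,
        LinearMap.toSpanSingleton_apply, one_smul, TensorProduct.tmul_smul]
    have hT' : ∀ r : X.presheaf.stalk y, DerivedOX.TensorSheaf.tensorStalk y L₁ L₃
        (r • (CohB1.tensorMod L₁ L₃).presheaf.germ (U x) y hy (g x)) = T r := fun r =>
      ((DerivedOX.TensorSheaf.tensorStalk y L₁ L₃).map_smul r _).trans (hT r).symm
    refine ⟨fun r r' h => T.injective ((hT' r).symm.trans ((congrArg (DerivedOX.TensorSheaf.tensorStalk y L₁ L₃) h).trans (hT' r'))), fun v => ?_⟩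
    exact ⟨T.symm (DerivedOX.TensorSheaf.tensorStalk y L₁ L₃ v),
      (DerivedOX.TensorSheaf.tensorStalk y L₁ L₃).injective ((hT' _).trans (T.apply_symm_apply _))⟩
  · refine (DerivedOX.TensorSheaf.tensorStalk y L₁ L₃).injective ?_
    refine Eq.trans ?_ ((DerivedOX.TensorSheaf.tensorStalk y L₁ L₃).map_smul _ _).symm
    rw [hg x' y hy', hg x y hy, A.trans x x' y (hUA x hy) (hUA x' hy'),
      B.trans x x' y (hUB x hy) (hUB x' hy'), TensorProduct.smul_tmul_smul]
    congr 1
    rw [det_append (StalkModule.stalkMapₗ S.f y) (StalkModule.stalkMapₗ S.g y) (fun z => (hex y _).2 ⟨z, rfl⟩)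
      (A.b x y (hUA x hy)) (B.b x y (hUB x hy)) (b x y hy) (hl x y hy) (hr x y hy)
      (A.b x' y (hUA x' hy')) (b x' y hy') (hl x' y hy')]
    congr 2
    funext j
    exact (hr x' y hy' j).symm

end Groth.Agent.Lib.FundLocal.DetSES
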