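import Groth.Agent.Lib.FundLocal.CycleValue
import Groth.Agent.Lib.FundLocal.HomPush

/-!
# The fundamental local isomorphism
-/

set_option autoImplicit false
set_option linter.style.haveILetI false
universe u

open CategoryTheory CategoryTheory.Limits AlgebraicGeometry Opposite TopologicalSpace

noncomputable section

namespace Groth.Agent.Lib.FundLocal.Main

open Groth.Agent.Lib Groth.Agent.Lib.Modules Groth.Agent.Lib.ExtShStalk Cocycle CycleValue OmegaSh

variable {P X : Scheme.{u}} [IsLocallyNoetherian P] (ι : X ⟶ P) [IsClosedImmersion ι]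
  [ModSite.HasSheafHom (O := P.sheaf) (M₀ ι)] {F : P.Modules} (I : InjectiveResolution F) {r : ℕ}
  (hι : RegImm.IsRegularImmersionOfCodim RegImm.Kind.regular r ι) {L : X.Modules}
  (hL : ExtPow.IsExtPow r (Omega.conormal ι) L) [ModSite.HasSheafHom (O := X.sheaf) L]

/-- The target on `X`. -/
abbrev N (F : P.Modules) (L : X.Modules) [ModSite.HasSheafHom (O := X.sheaf) L] : X.Modules :=
  (Hom.R L).obj ((Scheme.Modules.pullback ι).obj F)

/-- `n` sends the wedge of a system of generators to the value. -/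
def Rel (x : X) (z : ((cx ι I).cycles r).presheaf.stalk (ι.base x)) (n : (N ι F L).presheaf.stalk x) : Prop :=
  ∀ f l b, Gen.IsReg ι x f → Wedge.IsGen ι hL x f l → IsValue ι I x f z b →
    Hom.σ L ((Scheme.Modules.pullback ι).obj F) x n l = b

omit [IsLocallyNoetherian P] [ModSite.HasSheafHom (O := P.sheaf) (M₀ ι)] [ModSite.HasSheafHom (O := X.sheaf) L] in
include hι hL in
theorem exists_gen (x : X) : ∃ f l, Gen.IsReg ι x f ∧ Wedge.IsGen ι hL x f l ∧
    Function.Bijective (LinearMap.toSpanSingleton (X.presheaf.stalk x) (L.presheaf.stalk x) l) := by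
  obtain ⟨U, hU, hx, f, k, hreg, hspan, hk⟩ := Gen.exists_chart ι hι x
  exact ⟨fun i => P.presheaf.germ U (ι.base x) hx (f i), _, Gen.isReg_germ ι hU f hreg hspan x hx,
    ⟨U, hU, hx, k, fun i => congrArg _ (hk i), rfl⟩,
    Wedge.bijective_toSpanSingleton ι hL hU f hreg hspan x hx k hk⟩

include hι

theorem exists_rel (x : X) (z : ((cx ι I).cycles r).presheaf.stalk (ι.base x)) : ∃ n, Rel ι I hL x z n := by
  haveI : IsLocallyNoetherian X := LocallyOfFiniteType.isLocallyNoetherian ι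
  obtain ⟨f, l, hf, hl, hbij⟩ := exists_gen ι hι hL x
  obtain ⟨b, hb⟩ := exists_value ι I hf z
  let e := LinearEquiv.ofBijective _ hbij
  obtain ⟨n, hn⟩ := (Hom.σ_bijective L (Gen.isCoh_extPow ι hL) _ x).2
    ((LinearMap.toSpanSingleton (X.presheaf.stalk x) _ b).comp e.symm.toLinearMap)
  have hnl : Hom.σ L ((Scheme.Modules.pullback ι).obj F) x n l = b := by
    rw [hn, LinearMap.comp_apply, LinearEquiv.coe_toLinearMap,
      show e.symm l = 1 from e.symm_apply_eq.2 (one_smul (X.presheaf.stalk x) l).symm, LinearMap.toSpanSingleton_apply, one_smul]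
  refine ⟨n, fun f' l' b' hf' hl' hb' => ?_⟩
  obtain ⟨T, hT⟩ := Gen.exists_mat ι hf hf'
  rw [Wedge.isGen_det ι hL hl hl' T hT, _root_.map_smul, hnl]
  exact value_unique ι I hf' (value_change ι I T hT hb) hb'

theorem rel_unique {x : X} {z : ((cx ι I).cycles r).presheaf.stalk (ι.base x)}
    {n n' : (N ι F L).presheaf.stalk x} (h : Rel ι I hL x z n) (h' : Rel ι I hL x z n') : n = n' := by
  haveI : IsLocallyNoetherian X := LocallyOfFiniteType.isLocallyNoetherian ι
  obtain ⟨f, l, hf, hl, hbij⟩ := exists_gen ι hι hL x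
  obtain ⟨b, hb⟩ := exists_value ι I hf z
  refine (Hom.σ_bijective L (Gen.isCoh_extPow ι hL) _ x).1 (LinearMap.ext fun v => ?_)
  obtain ⟨a, rfl⟩ := hbij.2 v
  rw [LinearMap.toSpanSingleton_apply, _root_.map_smul, _root_.map_smul, h f l b hf hl hb, h' f l b hf hl hb]

/-- The stalk maps. -/
def g (x : X) (z : ((cx ι I).cycles r).presheaf.stalk (ι.base x)) : (N ι F L).presheaf.stalk x :=
  (exists_rel ι I hι hL x z).choose

theorem rel_g (x : X) (z : ((cx ι I).cycles r).presheaf.stalk (ι.base x)) : Rel ι I hL x z (g ι I hι hL x z) :=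
  (exists_rel ι I hι hL x z).choose_spec

theorem g_add (x : X) (a b : ((cx ι I).cycles r).presheaf.stalk (ι.base x)) :
    g ι I hι hL x (a + b) = g ι I hι hL x a + g ι I hι hL x b := by
  refine rel_unique ι I hι hL (rel_g ι I hι hL x _) fun f l c hf hl hc => ?_
  obtain ⟨ca, hca⟩ := exists_value ι I hf a
  obtain ⟨cb, hcb⟩ := exists_value ι I hf b
  rw [map_add, LinearMap.add_apply, rel_g ι I hι hL x a f l ca hf hl hca, rel_g ι I hι hL x b f l cb hf hl hcb]
  exact value_unique ι I hf (value_add ι I hca hcb) hc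

theorem g_smul (x : X) (c : P.presheaf.stalk (ι.base x)) (a : ((cx ι I).cycles r).presheaf.stalk (ι.base x)) :
    g ι I hι hL x (c • a) = (ι.stalkMap x).hom c • g ι I hι hL x a := by
  refine rel_unique ι I hι hL (rel_g ι I hι hL x _) fun f l b hf hl hb => ?_
  obtain ⟨ba, hba⟩ := exists_value ι I hf a
  rw [_root_.map_smul, LinearMap.smul_apply, rel_g ι I hι hL x a f l ba hf hl hba]
  exact value_unique ι I hf (value_smul ι I c hba) hb

theorem isCont_g : HomPush.IsCont ι (g ι I hι hL) := by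
  haveI : IsLocallyNoetherian X := LocallyOfFiniteType.isLocallyNoetherian ι
  intro x z
  obtain ⟨U₀, hx₀, s, rfl⟩ := TopCat.Presheaf.exists_germ_eq ((cx ι I).cycles r).presheaf z
  obtain ⟨U, hU, hxU, f, k, hreg, hspan, hk⟩ := Gen.exists_chart ι hι x
  let W := U ⊓ U₀
  let fW : Fin r → Γ(P, W) := fun i => P.presheaf.map (homOfLE (inf_le_left : W ≤ U)).op (f i)
  let sW : Γ((cx ι I).cycles r, W) := ((cx ι I).cycles r).presheaf.map (homOfLE (inf_le_right : W ≤ U₀)).op s
  let s₀ : Γ(I.cocomplex.X r, W) := evSec ι _ W (((cx ι I).iCycles r).app W sW)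
  have hgs : ∀ (p : P) (hp : p ∈ W), (I.cocomplex.X r).presheaf.germ W p hp s₀ =
      evz ι I r p (((cx ι I).cycles r).presheaf.germ U₀ p hp.2 s) := fun p hp => by
    refine (ev_germ ι _ hp _).symm.trans (congrArg (ev ι _ p) ?_)
    refine (StalkModule.stalkMapₗ_germ _ hp sW).symm.trans (congrArg _ ?_)
    exact TopCat.Presheaf.germ_res_apply _ _ _ _ s
  have hext : ∀ {G : P.Modules} (t t' : Γ(G, W)), (∀ p hp, G.presheaf.germ W p hp t = G.presheaf.germ W p hp t') →
      t = t' := fun {G} t t' => TopCat.Presheaf.section_ext ⟨G.presheaf, G.isSheaf⟩ W t t'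
  have hs : (I.cocomplex.d r (r + 1)).app W s₀ = 0 := hext _ _ fun p hp => by
    rw [← StalkModule.stalkMapₗ_germ, map_zero, hgs p hp]
    exact d_evz ι I p _
  have hf : ∀ i, fW i • s₀ = 0 := fun i => hext _ _ fun p hp => by
    rw [StalkModule.germ_smul, map_zero, hgs p hp]
    by_cases hr : p ∈ Set.range ι.base
    · obtain ⟨y, rfl⟩ := hr
      refine ev_killed ι _ y _ _ ?_
      rw [show P.presheaf.germ W (ι.base y) hp (fW i) = P.presheaf.germ U (ι.base y) hp.1 (f i) from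
        TopCat.Presheaf.germ_res_apply _ _ _ _ _, ← (Gen.isReg_germ ι hU f hreg hspan y hp.1).2.le
          (Ideal.subset_span ⟨i, rfl⟩)]
    · haveI : Subsingleton (((cx ι I).X r).presheaf.stalk p) := subsingleton_off ι (I.cocomplex.X r) hr
      show _ • ev ι _ p (StalkModule.stalkMapₗ ((cx ι I).iCycles r) p _) = 0
      rw [show StalkModule.stalkMapₗ ((cx ι I).iCycles r) p
        (((cx ι I).cycles r).presheaf.germ U₀ p hp.2 s) = 0 from Subsingleton.elim _ _]
      exact (congrArg _ (map_zero _)).trans (smul_zero _)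
  obtain ⟨W', hW', hxW', m, hm⟩ := Spread.exists_val I (p := ι.base x) (W := W) ⟨hxU, hx₀⟩ fW s₀ hs hf
  obtain ⟨T₀, hxT₀, t₀, ht₀⟩ := TopCat.Presheaf.exists_germ_eq (N ι F L).presheaf
    (g ι I hι hL x (((cx ι I).cycles r).presheaf.germ U₀ (ι.base x) hx₀ s))
  have hWU : W' ≤ U := hW'.trans inf_le_left
  let mX : Γ((Scheme.Modules.pullback ι).obj F, ι ⁻¹ᵁ W') :=
    ((Scheme.Modules.pullbackPushforwardAdjunction ι).unit.app F).app W' m
  have hval : ∀ (y : X) (hy : ι.base y ∈ W'), IsValue ι I y (fun i => P.presheaf.germ U (ι.base y) (hWU hy) (f i))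
      (((cx ι I).cycles r).presheaf.germ U₀ (ι.base y) (hW' hy).2 s)
      (((Scheme.Modules.pullback ι).obj F).presheaf.germ (ι ⁻¹ᵁ W') y hy mX) := fun y hy => by
    refine ⟨_, ?_, q_germ ι F y hy m⟩
    have h1 := hm (ι.base y) hy
    rw [hgs (ι.base y) (hW' hy), show (fun i => P.presheaf.germ W (ι.base y) (hW' hy) (fW i)) =
      fun i => P.presheaf.germ U (ι.base y) (hWU hy) (f i) from
      funext fun i => TopCat.Presheaf.germ_res_apply _ _ _ _ _] at h1
    exact h1
  let T₁ : X.Opens := T₀ ⊓ ι ⁻¹ᵁ W'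
  let l₁ : Γ(L, T₁) := L.presheaf.map
    (homOfLE ((inf_le_right : T₁ ≤ ι ⁻¹ᵁ W').trans (ι.preimage_mono hWU))).op (Wedge.wedgeSec ι hL U hU k)
  let t₁ : Γ(N ι F L, T₁) := (N ι F L).presheaf.map (homOfLE (inf_le_left : T₁ ≤ T₀)).op t₀
  let b₁ : Γ((Scheme.Modules.pullback ι).obj F, T₁) :=
    TensorMod.Free.pairM (Hom.ε L ((Scheme.Modules.pullback ι).obj F)) l₁ t₁
  have hb₁ : ∀ (y : X) (hy : y ∈ T₁), Hom.σ L _ y ((N ι F L).presheaf.germ T₀ y hy.1 t₀)
      (L.presheaf.germ (ι ⁻¹ᵁ U) y (hWU hy.2) (Wedge.wedgeSec ι hL U hU k)) =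
      ((Scheme.Modules.pullback ι).obj F).presheaf.germ T₁ y hy b₁ := fun y hy => by
    rw [← TopCat.Presheaf.germ_res_apply (N ι F L).presheaf (homOfLE (inf_le_left : T₁ ≤ T₀)) y hy t₀,
      ← TopCat.Presheaf.germ_res_apply L.presheaf
        (homOfLE ((inf_le_right : T₁ ≤ ι ⁻¹ᵁ W').trans (ι.preimage_mono hWU))) y hy _]
    exact ZarCoh.Exchange.HomAdj.stalkPair_germ (Hom.ε L _) hy l₁ t₁
  have hgen : ∀ (y : X) (hy : ι.base y ∈ U), Wedge.IsGen ι hL y (fun i => P.presheaf.germ U (ι.base y) hy (f i))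
      (L.presheaf.germ (ι ⁻¹ᵁ U) y hy (Wedge.wedgeSec ι hL U hU k)) := fun y hy =>
    ⟨U, hU, hy, k, fun i => congrArg _ (hk i), rfl⟩
  have hx₁ : x ∈ T₁ := ⟨hxT₀, hxW'⟩
  obtain ⟨T₂, hxT₂, i1, i2, he⟩ := TopCat.Presheaf.germ_eq ((Scheme.Modules.pullback ι).obj F).presheaf x hx₁
    (show x ∈ ι ⁻¹ᵁ W' from hxW') b₁ mX (by
      rw [← hb₁ x hx₁, ht₀]
      exact rel_g ι I hι hL x _ _ _ _ (Gen.isReg_germ ι hU f hreg hspan x (hWU hxW')) (hgen x _) (hval x hxW'))
  obtain ⟨V, hV, hVT⟩ := ι.isClosedEmbedding.isInducing.isOpen_iff.1 T₂.2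
  have hxV : ι.base x ∈ V := by rw [← Set.mem_preimage, hVT]; exact hxT₂
  let V' : P.Opens := ⟨V, hV⟩ ⊓ W'
  have hV'T : ι ⁻¹ᵁ V' ≤ T₂ := fun y hy => hVT.le hy.1
  refine ⟨V', ⟨hxV, hxW'⟩,
    ((cx ι I).cycles r).presheaf.map (homOfLE ((inf_le_right : V' ≤ W').trans (hW'.trans inf_le_right))).op s,
    (N ι F L).presheaf.map (homOfLE (hV'T.trans (i1.le.trans inf_le_left))).op t₀,
    TopCat.Presheaf.germ_res_apply _ _ _ _ s, fun y hy => ?_⟩
  rw [TopCat.Presheaf.germ_res_apply, TopCat.Presheaf.germ_res_apply]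
  refine rel_unique ι I hι hL (rel_g ι I hι hL y _) fun f' l' b' hf' hl' hb' => ?_
  have hyU : ι.base y ∈ U := hWU hy.2
  have hyT₂ : y ∈ T₂ := hV'T hy
  obtain ⟨T, hT⟩ := Gen.exists_mat ι (Gen.isReg_germ ι hU f hreg hspan y hyU) hf'
  rw [Wedge.isGen_det ι hL (hgen y hyU) hl' T hT, _root_.map_smul, hb₁ y (i1.le hyT₂)]
  refine value_unique ι I hf' ?_ hb'
  refine value_change ι I T hT ?_
  rw [← TopCat.Presheaf.germ_res_apply _ i1 y hyT₂ b₁, he, TopCat.Presheaf.germ_res_apply]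
  exact hval y hy.2

include hL in
/-- The fundamental local isomorphism. -/
theorem nonempty_iso [HasInjectiveResolutions (ModSite.Mod P.sheaf)] (F : P.Modules) :
    Nonempty ((ModSite.extSh (O := P.sheaf) (M₀ ι) r).obj F ≅ (Scheme.Modules.pushforward ι).obj (N ι F L)) := by
  haveI : HasInjectiveResolutions P.Modules := ‹HasInjectiveResolutions (ModSite.Mod P.sheaf)›
  haveI : IsLocallyNoetherian X := LocallyOfFiniteType.isLocallyNoetherian ι
  let I := injectiveResolution F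
  obtain ⟨φ, hφ⟩ := HomPush.exists_hom ι (g ι I hι hL) (isCont_g ι I hι hL) (g_add ι I hι hL) (g_smul ι I hι hL)
  let i := (ComplexShape.up ℕ).prev r
  have hg0 : ∀ (x : X) (v : ((cx ι I).X i).presheaf.stalk (ι.base x)),
      g ι I hι hL x (StalkModule.stalkMapₗ ((cx ι I).toCycles i r) (ι.base x) v) = 0 := fun x v =>
    rel_unique ι I hι hL (rel_g ι I hι hL x _) fun f l b hf hl hb => by
      rw [map_zero, LinearMap.zero_apply]
      exact value_unique ι I hf (value_toCycles ι I hf rfl v) hb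
  have h0 : (cx ι I).toCycles i r ≫ φ = 0 := StalkModule.hom_ext_stalkMapₗ fun p => by
    refine LinearMap.ext fun v => ?_
    rw [StalkModule.stalkMapₗ_zero, StalkModule.stalkMapₗ_comp, LinearMap.zero_apply, LinearMap.comp_apply]
    by_cases hp : p ∈ Set.range ι.base
    · obtain ⟨x, rfl⟩ := hp
      exact (PushClosed.Unit.bijective_pushStalkMap ι _ x).1 ((hφ x _).trans ((hg0 x v).trans (map_zero _).symm))
    · haveI := PushClosed.Unit.subsingleton_stalk_push ι (N ι F L) hp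
      exact Subsingleton.elim _ _
  let hc := (cx ι I).homologyIsCokernel i r rfl
  let ψ : (cx ι I).homology r ⟶ (Scheme.Modules.pushforward ι).obj (N ι F L) := hc.desc (CokernelCofork.ofπ φ h0)
  have hψ : (cx ι I).homologyπ r ≫ ψ = φ := hc.fac _ WalkingParallelPair.one
  have hπ : ∀ p, Function.Surjective (StalkModule.stalkMapₗ ((cx ι I).homologyπ r) p) :=
    fun p => (StalkModule.epi_iff_stalkMapₗ_surjective _).1 inferInstance p
  have hψ' : ∀ p z, StalkModule.stalkMapₗ ψ p (StalkModule.stalkMapₗ ((cx ι I).homologyπ r) p z) =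
      StalkModule.stalkMapₗ φ p z := fun p z =>
    (LinearMap.congr_fun (StalkModule.stalkMapₗ_comp ((cx ι I).homologyπ r) ψ p) z).symm.trans
      (congrArg (fun t => StalkModule.stalkMapₗ t p z) hψ)
  have hiso : IsIso ψ := (StalkModule.isIso_iff_stalkMapₗ_bijective ψ).2 fun p => by
    by_cases hp : p ∈ Set.range ι.base
    · obtain ⟨x, rfl⟩ := hp
      have hb := PushClosed.Unit.bijective_pushStalkMap ι (N ι F L) x
      refine ⟨(injective_iff_map_eq_zero _).2 fun w hw => ?_, fun n => ?_⟩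
      · obtain ⟨z, rfl⟩ := hπ _ w
        rw [hψ'] at hw
        have hz : g ι I hι hL x z = 0 := (hφ x z).symm.trans ((congrArg _ hw).trans (map_zero _))
        obtain ⟨f, l, hf, hl, -⟩ := exists_gen ι hι hL x
        obtain ⟨b, hb'⟩ := exists_value ι I hf z
        obtain rfl : b = 0 := by
          rw [← rel_g ι I hι hL x z f l b hf hl hb', hz, map_zero, LinearMap.zero_apply]
        obtain ⟨v, rfl⟩ := exists_of_value_zero ι I hf rfl hb'
        rw [← LinearMap.comp_apply, ← StalkModule.stalkMapₗ_comp, HomologicalComplex.toCycles_comp_homologyπ,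
          StalkModule.stalkMapₗ_zero, LinearMap.zero_apply]
      · obtain ⟨f, l, hf, hl, hbij⟩ := exists_gen ι hι hL x
        let n₀ := DerivedOX.PullbackStalk.pushStalkMap ι x (N ι F L) n
        obtain ⟨z, hz⟩ := exists_cycle ι I hf (Hom.σ L _ x n₀ l)
        refine ⟨StalkModule.stalkMapₗ ((cx ι I).homologyπ r) _ z, (hψ' _ z).trans (hb.1 ((hφ x z).trans ?_))⟩
        refine (Hom.σ_bijective L (Gen.isCoh_extPow ι hL) _ x).1 (LinearMap.ext fun v => ?_)
        obtain ⟨a, rfl⟩ := hbij.2 v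
        rw [LinearMap.toSpanSingleton_apply, _root_.map_smul, _root_.map_smul,
          rel_g ι I hι hL x z f l _ hf hl hz]
    · haveI := PushClosed.Unit.subsingleton_stalk_push ι (N ι F L) hp
      refine ⟨fun a b _ => ?_, fun n => ⟨0, Subsingleton.elim _ _⟩⟩
      haveI : Subsingleton (((cx ι I).X r).presheaf.stalk p) := subsingleton_off ι (I.cocomplex.X r) hp
      obtain ⟨za, rfl⟩ := hπ p a
      obtain ⟨zb, rfl⟩ := hπ p b
      exact congrArg _ (evz_injective ι I p (congrArg (ev ι _ p) (@Subsingleton.elim (((cx ι I).X r).presheaf.stalk p) _ _ _)))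
  exact ⟨I.isoRightDerivedObj (Hom.R (M₀ ι)) r ≪≫ @asIso _ _ _ _ ψ hiso⟩

end Groth.Agent.Lib.FundLocal.Main
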