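import Groth.Agent.Lib.KoszulSh.Algebra
import Groth.Agent.Lib.KoszulSh.Twist
import Mathlib.Algebra.Module.Injective
import Mathlib.LinearAlgebra.ExteriorPower.Basis
import Mathlib.LinearAlgebra.ExteriorAlgebra.Grading
import Mathlib.LinearAlgebra.Determinant

/-!
# The zigzag between a cocycle killed by an ideal and the module mod the ideal

For an exact augmented complex `0 → M → C⁰ → C¹ → ⋯` and a form `φ` on `Rʳ` with values generating `J`,
`Linked` relates `g : ⋀ᵏ → Cʲ` to `a : ⋀ → M` through the Koszul differential. It gives a map from the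
cocycles in `Cʳ` killed by `J` to `M / J M`, multiplied by `det T` under a change of generators, and
bijective on classes for a regular sequence and injective terms.
-/

set_option autoImplicit false
set_option linter.style.haveILetI false
universe u

open ExteriorAlgebra

noncomputable section

namespace Groth.Agent.Lib.FundLocal.Algebra

open Groth.Agent.Lib

variable {R : Type u} [CommRing R] {r : ℕ}

local notation "V" => Fin r → R
local notation "EA" => ExteriorAlgebra R (Fin r → R)
set_option quotPrecheck false in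
local notation "P" k:max => ↥(⋀[R]^k (Fin r → R))
local notation "K" => KoszulSh.Algebra.d

/-- The projection to a degree. -/
def proj (k : ℕ) : EA →ₗ[R] P k :=
  (DirectSum.component R ℕ (fun i : ℕ => P i) k).comp
    (DirectSum.decomposeLinearEquiv (fun i : ℕ => ⋀[R]^i (Fin r → R))).toLinearMap

theorem proj_coe (k : ℕ) (x : P k) : proj k (x : EA) = x := by
  rw [proj, LinearMap.comp_apply, LinearEquiv.coe_toLinearMap]
  show DirectSum.decompose (fun i : ℕ => ⋀[R]^i (Fin r → R)) (x : EA) k = x
  exact Subtype.ext (DirectSum.decompose_of_mem_same (fun i : ℕ => ⋀[R]^i (Fin r → R)) x.2)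

theorem K_K (φ : Module.Dual R V) (k : ℕ) (x : P (k + 2)) : K φ k (K φ (k + 1) x) = 0 :=
  Subtype.ext (CliffordAlgebra.contractLeft_contractLeft (Q := (0 : QuadraticForm R V)) φ (x : EA))

theorem K_mem (φ : Module.Dual R V) (k : ℕ) (x : P (k + 1)) :
    K φ k x ∈ LinearMap.range φ • (⊤ : Submodule R (P k)) := by
  have hx : x ∈ Submodule.span R (Set.range (exteriorPower.ιMulti R (k + 1))) := by
    rw [exteriorPower.ιMulti_span]; trivial
  induction hx using Submodule.span_induction with
  | mem y hy =>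
    obtain ⟨e, rfl⟩ := hy
    rw [KoszulSh.Algebra.d_ιMulti, KoszSh.dGen]
    exact Submodule.sum_mem _ fun i _ => Submodule.smul_mem_smul
      (Ideal.mul_mem_left _ _ ⟨e i, rfl⟩) trivial
  | zero => rw [map_zero]; exact Submodule.zero_mem _
  | add y z _ _ hy hz => rw [map_add]; exact Submodule.add_mem _ hy hz
  | smul c y _ hy => rw [map_smul]; exact Submodule.smul_mem _ c hy

theorem subsingleton_power {k : ℕ} (h : r < k) : Subsingleton (P k) := by
  haveI : IsEmpty (Set.powersetCard (Fin r) k) := ⟨fun s => by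
    have h1 := (s : Finset (Fin r)).card_le_univ
    rw [Set.powersetCard.card_eq, Fintype.card_fin] at h1
    omega⟩
  exact ((Pi.basisFun R (Fin r)).exteriorPower k).repr.toEquiv.subsingleton

/-- The top element. -/
def ω : P r := exteriorPower.ιMulti R r (Pi.basisFun R (Fin r))

/-- The coordinate of the top element. -/
def coord : EA →ₗ[R] R :=
  (exteriorPower.alternatingMapLinearEquiv (Pi.basisFun R (Fin r)).det).comp (proj r)

theorem coord_ω : coord ((ω : P r) : EA) = (1 : R) := by
  rw [coord, LinearMap.comp_apply, proj_coe, ω, exteriorPower.alternatingMapLinearEquiv_apply_ιMulti]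
  exact (Pi.basisFun R (Fin r)).det_self

theorem ιMulti_eq_det_smul (v : Fin r → V) :
    exteriorPower.ιMulti R r v = (Pi.basisFun R (Fin r)).det v • (ω : P r) := by
  have h : exteriorPower.ιMulti R r =
      (LinearMap.toSpanSingleton R (P r) ω).compAlternatingMap (Pi.basisFun R (Fin r)).det := by
    refine Module.Basis.ext_alternating (Pi.basisFun R (Fin r)) fun i hi => ?_
    let σ : Equiv.Perm (Fin r) := Equiv.ofBijective i (Finite.injective_iff_bijective.1 hi)
    show exteriorPower.ιMulti R r ((Pi.basisFun R (Fin r)) ∘ σ) =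
      (Pi.basisFun R (Fin r)).det ((Pi.basisFun R (Fin r)) ∘ σ) • (ω : P r)
    rw [AlternatingMap.map_perm, AlternatingMap.map_perm, Module.Basis.det_self, smul_assoc, one_smul]
    rfl
  exact congrArg (fun F => F v) h

theorem eq_coord_smul (x : P r) : x = coord (x : EA) • (ω : P r) := by
  have h : (LinearMap.toSpanSingleton R (P r) ω).comp (coord.comp (⋀[R]^r (Fin r → R)).subtype) =
      LinearMap.id := by
    refine exteriorPower.linearMap_ext (AlternatingMap.ext fun v => ?_)
    show coord ((exteriorPower.ιMulti R r v : P r) : EA) • (ω : P r) = exteriorPower.ιMulti R r v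
    rw [coord, LinearMap.comp_apply, proj_coe, exteriorPower.alternatingMapLinearEquiv_apply_ιMulti,
      ← ιMulti_eq_det_smul]
  exact (LinearMap.congr_fun h x).symm

/-- Multiplication of the top element by `det T`. -/
theorem map_ω (T : V →ₗ[R] V) : exteriorPower.map r T (ω : P r) = LinearMap.det T • (ω : P r) := by
  rw [ω, exteriorPower.map_apply_ιMulti, ιMulti_eq_det_smul]
  congr 1
  rw [Module.Basis.det_comp, Module.Basis.det_self, mul_one]

variable {M : Type u} [AddCommGroup M] [Module R M] {C : ℕ → Type u} [∀ j, AddCommGroup (C j)]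
  [∀ j, Module R (C j)] (η : M →ₗ[R] C 0) (d : ∀ j, C j →ₗ[R] C (j + 1))

/-- `g : ⋀ᵏ → Cʲ` is linked to `a` by a zigzag. -/
def Linked (φ : Module.Dual R V) : ∀ (j k : ℕ), (P k →ₗ[R] C j) → (EA →ₗ[R] M) → Prop
  | 0, k, g, a => η.comp (a.comp (⋀[R]^k (Fin r → R)).subtype) = g
  | j + 1, k, g, a => ∃ h : P k →ₗ[R] C j, (d j).comp h = g ∧ Linked φ j (k + 1) (h.comp (K φ k)) a

variable {η d} {φ : Module.Dual R (Fin r → R)}

theorem linked_add : ∀ {j k : ℕ} {g g' : P k →ₗ[R] C j} {a a' : EA →ₗ[R] M},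
    Linked η d φ j k g a → Linked η d φ j k g' a' → Linked η d φ j k (g + g') (a + a')
  | 0, _, _, _, _, _, h, h' => by
    simp only [Linked] at h h' ⊢
    rw [LinearMap.add_comp, LinearMap.comp_add, h, h']
  | j + 1, _, _, _, _, _, ⟨u, hu, h⟩, ⟨u', hu', h'⟩ =>
    ⟨u + u', by rw [LinearMap.comp_add, hu, hu'], by rw [LinearMap.add_comp]; exact linked_add h h'⟩

theorem linked_smul (c : R) : ∀ {j k : ℕ} {g : P k →ₗ[R] C j} {a : EA →ₗ[R] M},
    Linked η d φ j k g a → Linked η d φ j k (c • g) (c • a)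
  | 0, _, _, _, h => by
    simp only [Linked] at h ⊢
    rw [LinearMap.smul_comp, LinearMap.comp_smul, h]
  | j + 1, _, _, _, ⟨u, hu, h⟩ =>
    ⟨c • u, by rw [LinearMap.comp_smul, hu], by rw [LinearMap.smul_comp]; exact linked_smul c h⟩

theorem linked_zero : ∀ {j k : ℕ}, Linked η d φ j k (0 : P k →ₗ[R] C j) 0
  | 0, _ => by simp [Linked]
  | _ + 1, _ => ⟨0, by simp, by rw [LinearMap.zero_comp]; exact linked_zero⟩

/-- Linking is natural in the complex. -/
theorem linked_map {M' : Type u} [AddCommGroup M'] [Module R M'] {C' : ℕ → Type u}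
    [∀ j, AddCommGroup (C' j)] [∀ j, Module R (C' j)] {η' : M' →ₗ[R] C' 0}
    {d' : ∀ j, C' j →ₗ[R] C' (j + 1)} (u : M →ₗ[R] M') (F : ∀ j, C j →ₗ[R] C' j)
    (hu : η'.comp u = (F 0).comp η) (hF : ∀ j, (d' j).comp (F j) = (F (j + 1)).comp (d j)) :
    ∀ {j k : ℕ} {g : P k →ₗ[R] C j} {a : EA →ₗ[R] M},
      Linked η d φ j k g a → Linked η' d' φ j k ((F j).comp g) (u.comp a)
  | 0, _, _, _, h => by
    simp only [Linked] at h ⊢
    rw [LinearMap.comp_assoc, ← LinearMap.comp_assoc, hu, LinearMap.comp_assoc, h]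
  | j + 1, _, _, _, ⟨v, hv, h⟩ =>
    ⟨(F j).comp v, by rw [← LinearMap.comp_assoc, hF, LinearMap.comp_assoc, hv],
      by rw [LinearMap.comp_assoc]; exact linked_map u F hu hF h⟩

/-- Linking under a change of generators. -/
theorem linked_comp (T : V →ₗ[R] V) : ∀ {j k : ℕ} {g : P k →ₗ[R] C j} {a : EA →ₗ[R] M},
    Linked η d φ j k g a →
      Linked η d (φ ∘ₗ T) j k (g.comp (exteriorPower.map k T)) (a.comp (ExteriorAlgebra.map T).toLinearMap)
  | 0, k, _, _, h => by
    simp only [Linked] at h ⊢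
    refine exteriorPower.linearMap_ext (AlternatingMap.ext fun v => ?_)
    have h' := LinearMap.congr_fun h (exteriorPower.ιMulti R k (T ∘ v))
    simp only [LinearMap.compAlternatingMap_apply, LinearMap.comp_apply, Submodule.subtype_apply,
      exteriorPower.map_apply_ιMulti, AlgHom.toLinearMap_apply, exteriorPower.ιMulti_apply_coe] at h' ⊢
    rw [ExteriorAlgebra.map_apply_ιMulti]
    exact h'
  | j + 1, k, _, _, ⟨v, hv, h⟩ => by
    refine ⟨v.comp (exteriorPower.map k T), by rw [← LinearMap.comp_assoc, hv], ?_⟩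
    have e : (v.comp (exteriorPower.map k T)).comp (K (φ ∘ₗ T) k) =
        (v.comp (K φ k)).comp (exteriorPower.map (k + 1) T) :=
      LinearMap.ext fun w => congrArg v (KoszulSh.Twist.d_map T φ k w).symm
    rw [e]
    exact linked_comp T h

variable (hη : Function.Injective η) (h0 : Function.Exact η (d 0))
  (hd : ∀ j, Function.Exact (d j) (d (j + 1)))

section Exact

include h0 hd

theorem exists_linked : ∀ {j k : ℕ} (g : P k →ₗ[R] C j), (d j).comp g = 0 →
    (∀ x : P (k + 1), g (K φ k x) = 0) → ∃ a, Linked η d φ j k g a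
  | 0, k, g, hg, _ => by
    obtain ⟨b, hb⟩ := Module.projective_lifting_property η.rangeRestrict
      (g.codRestrict (LinearMap.range η) fun x => (h0 (g x)).1 (LinearMap.congr_fun hg x))
      η.surjective_rangeRestrict
    refine ⟨b.comp (proj k), LinearMap.ext fun x => ?_⟩
    show η (b (proj k (x : EA))) = g x
    rw [proj_coe]
    exact congrArg Subtype.val (LinearMap.congr_fun hb x)
  | j + 1, k, g, hg, hK => by
    obtain ⟨b, hb⟩ := Module.projective_lifting_property (d j).rangeRestrict
      (g.codRestrict (LinearMap.range (d j)) fun x => (hd j (g x)).1 (LinearMap.congr_fun hg x))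
      (d j).surjective_rangeRestrict
    have hb' : (d j).comp b = g := LinearMap.ext fun x => congrArg Subtype.val (LinearMap.congr_fun hb x)
    obtain ⟨a, ha⟩ := exists_linked (j := j) (b.comp (K φ k))
      (LinearMap.ext fun x => by
        show d j (b (K φ k x)) = 0
        rw [show d j (b (K φ k x)) = g (K φ k x) from LinearMap.congr_fun hb' _, hK])
      (fun x => by rw [LinearMap.comp_apply, K_K, map_zero])
    exact ⟨a, b, hb', ha⟩

include hη

/-- The top value of a coboundary is in `J M`. -/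
theorem linked_coboundary : ∀ {j k : ℕ} {g : P k →ₗ[R] C (j + 1)} {a : EA →ₗ[R] M} (u : P k →ₗ[R] C j),
    (d j).comp u = g → (∀ x : P (k + 1), u (K φ k x) = 0) → Linked η d φ (j + 1) k g a →
      ∀ x : EA, x ∈ ⋀[R]^(j + 1 + k) (Fin r → R) → a x ∈ LinearMap.range φ • (⊤ : Submodule R M)
  | 0, k, g, a, u, hu, huK, ⟨h, hh, hl⟩, x, hx => by
    have h1 : ∀ w, (h - u) w ∈ LinearMap.range η := fun w => (h0 _).1 (by
      rw [LinearMap.sub_apply, map_sub, sub_eq_zero]
      exact (LinearMap.congr_fun hh w).trans (LinearMap.congr_fun hu w).symm)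
    obtain ⟨b, hb⟩ := Module.projective_lifting_property η.rangeRestrict
      ((h - u).codRestrict (LinearMap.range η) h1) η.surjective_rangeRestrict
    rw [show 0 + 1 + k = k + 1 by omega] at hx
    have hK' : η (a x) = η (b (K φ k ⟨x, hx⟩)) := by
      refine (LinearMap.congr_fun hl ⟨x, hx⟩).trans ?_
      refine Eq.trans ?_ (congrArg Subtype.val (LinearMap.congr_fun hb (K φ k ⟨x, hx⟩))).symm
      show h (K φ k ⟨x, hx⟩) = (h - u) (K φ k ⟨x, hx⟩)
      rw [LinearMap.sub_apply, huK, sub_zero]
    rw [hη hK']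
    refine Submodule.smul_mono le_rfl (le_top (a := Submodule.map b ⊤)) ?_
    rw [← Submodule.map_smul'']
    exact Submodule.mem_map_of_mem (K_mem φ k _)
  | j + 1, k, g, a, u, hu, huK, ⟨h, hh, hl⟩, x, hx => by
    have h1 : ∀ w, (h - u) w ∈ LinearMap.range (d j) := fun w => (hd j _).1 (by
      rw [LinearMap.sub_apply, map_sub, sub_eq_zero]
      exact (LinearMap.congr_fun hh w).trans (LinearMap.congr_fun hu w).symm)
    obtain ⟨b, hb⟩ := Module.projective_lifting_property (d j).rangeRestrict
      ((h - u).codRestrict (LinearMap.range (d j)) h1) (d j).surjective_rangeRestrict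
    refine linked_coboundary (j := j) (b.comp (K φ k)) (LinearMap.ext fun w => ?_)
      (fun w => by rw [LinearMap.comp_apply, K_K, map_zero]) hl x
      (by rwa [show j + 1 + (k + 1) = j + 1 + 1 + k by omega])
    refine (congrArg Subtype.val (LinearMap.congr_fun hb (K φ k w))).trans ?_
    show (h - u) (K φ k w) = h (K φ k w)
    rw [LinearMap.sub_apply, huK, sub_zero]

end Exact

section Regular

variable (hinj : ∀ j, Module.Injective R (C j))
  (hreg : RingTheory.Sequence.IsWeaklyRegular R ((List.ofFn fun i : Fin r => φ (Pi.basisFun R (Fin r) i)) : List R))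

include hinj hreg

omit [Module R M] [AddCommGroup M] in
/-- A map killing the boundaries factors through the differential. -/
theorem exists_factor (j k : ℕ) (g : P (k + 1) →ₗ[R] C j) (hg : ∀ x : P (k + 2), g (K φ (k + 1) x) = 0) :
    ∃ h : P k →ₗ[R] C j, h.comp (K φ k) = g := by
  have hker : LinearMap.ker (K φ k) ≤ LinearMap.ker g := fun x hx => by
    obtain ⟨y, rfl⟩ := KoszulSh.Algebra.exact_d (Pi.basisFun R (Fin r)) φ hreg k (LinearMap.mem_ker.1 hx)
    exact hg y
  let i : (P (k + 1) ⧸ LinearMap.ker (K φ k)) →ₗ[R] P k := (LinearMap.ker (K φ k)).liftQ (K φ k) le_rfl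
  have hi : Function.Injective i := LinearMap.ker_eq_bot.1 (Submodule.ker_liftQ_eq_bot _ _ _ le_rfl)
  obtain ⟨h, hh⟩ := (hinj j).out i hi ((LinearMap.ker (K φ k)).liftQ g hker)
  exact ⟨h, LinearMap.ext fun x => hh (Submodule.Quotient.mk x)⟩

include h0 hd

/-- Every top value is reached. -/
theorem exists_linked_of_top (a : EA →ₗ[R] M) : ∀ (j k : ℕ), j + k = r →
    ∃ g : P k →ₗ[R] C j, (d j).comp g = 0 ∧ (∀ x : P (k + 1), g (K φ k x) = 0) ∧ Linked η d φ j k g a
  | 0, k, hk => by
    refine ⟨η.comp (a.comp (⋀[R]^k (Fin r → R)).subtype), LinearMap.ext fun x => ?_, fun x => ?_, rfl⟩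
    · exact (h0 _).2 ⟨_, rfl⟩
    · haveI := subsingleton_power (R := R) (r := r) (k := k + 1) (by omega)
      rw [Subsingleton.elim x 0, map_zero, map_zero]
  | j + 1, k, hk => by
    obtain ⟨g, hg, hgK, hl⟩ := exists_linked_of_top a j (k + 1) (by omega)
    obtain ⟨h, hh⟩ := exists_factor hinj hreg j k g hgK
    refine ⟨(d j).comp h, LinearMap.ext fun x => ?_, fun x => ?_, h, rfl, hh ▸ hl⟩
    · exact (hd j _).2 ⟨_, rfl⟩
    · show d j (h (K φ k x)) = 0
      rw [show h (K φ k x) = g x from LinearMap.congr_fun hh x]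
      exact LinearMap.congr_fun hg x

/-- With top value a Koszul boundary, the cochain is a coboundary. -/
theorem exists_coboundary (b : EA →ₗ[R] M) : ∀ {j k : ℕ}, j + 1 + k = r →
    ∀ {g : P k →ₗ[R] C (j + 1)} {a : EA →ₗ[R] M}, (∀ x : P r, a x = b (KoszulSh.Algebra.D φ (x : EA))) →
      Linked η d φ (j + 1) k g a → ∃ u : P k →ₗ[R] C j, (d j).comp u = g ∧ ∀ x : P (k + 1), u (K φ k x) = 0
  | 0, k, hk, g, a, hab, ⟨h, hh, hl⟩ => by
    refine ⟨h - η.comp (b.comp (⋀[R]^k (Fin r → R)).subtype), ?_, fun x => ?_⟩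
    · rw [LinearMap.comp_sub, hh, ← LinearMap.comp_assoc]
      rw [show (d 0).comp η = 0 from LinearMap.ext fun m => ?_, LinearMap.zero_comp, sub_zero]
      exact (h0 _).2 ⟨m, rfl⟩
    · have h1 := LinearMap.congr_fun hl x
      have hx : (x : EA) ∈ ⋀[R]^r (Fin r → R) :=
        (congrArg (fun i => (x : EA) ∈ ⋀[R]^i (Fin r → R)) (show k + 1 = r by omega)).mp x.2
      rw [LinearMap.sub_apply, sub_eq_zero]
      exact h1.symm.trans (congrArg η (hab ⟨x, hx⟩))
  | j + 1, k, hk, g, a, hab, ⟨h, hh, hl⟩ => by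
    obtain ⟨u', hu', huK⟩ := exists_coboundary b (j := j) (k := k + 1) (by omega) hab hl
    obtain ⟨w, hw⟩ := exists_factor hinj hreg j k u' huK
    refine ⟨h - (d j).comp w, ?_, fun x => ?_⟩
    · rw [LinearMap.comp_sub, hh, ← LinearMap.comp_assoc,
        show (d (j + 1)).comp (d j) = 0 from LinearMap.ext fun m => (hd j _).2 ⟨m, rfl⟩, LinearMap.zero_comp, sub_zero]
    · rw [LinearMap.sub_apply, sub_eq_zero]
      show h (K φ k x) = d j (w (K φ k x))
      rw [show w (K φ k x) = u' x from LinearMap.congr_fun hw x]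
      exact (LinearMap.congr_fun hu' x).symm

end Regular

omit [∀ j, AddCommGroup (C j)] [∀ j, Module R (C j)] in
/-- `J M` consists of the values at the boundary of the top element. -/
theorem exists_boundary {m : M} (hm : m ∈ LinearMap.range φ • (⊤ : Submodule R M)) :
    ∃ b : EA →ₗ[R] M, m = b (KoszulSh.Algebra.D φ ((ω : P r) : EA)) := by
  refine Submodule.smul_induction_on hm (fun f hf n _ => ?_) fun a a' ha ha' => ?_
  · obtain ⟨e, rfl⟩ := hf
    refine ⟨(LinearMap.toSpanSingleton R M n).comp (coord.comp (LinearMap.mulLeft R (ExteriorAlgebra.ι R e))), ?_⟩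
    have h0 : ExteriorAlgebra.ι R e * ((ω : P r) : EA) = 0 := by
      haveI := subsingleton_power (R := R) (r := r) (k := r + 1) (Nat.lt_succ_self r)
      have hmem : ExteriorAlgebra.ι R e * ((ω : P r) : EA) ∈ ⋀[R]^(r + 1) (Fin r → R) := by
        show _ ∈ LinearMap.range (ExteriorAlgebra.ι R) ^ (r + 1)
        rw [pow_succ']
        exact Submodule.mul_mem_mul ⟨e, rfl⟩ (ω : P r).2
      exact congrArg Subtype.val (Subsingleton.elim (⟨_, hmem⟩ : P (r + 1)) 0)
    have h1 := KoszulSh.Algebra.D_ι_mul φ e ((ω : P r) : EA)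
    rw [h0, map_zero, eq_comm, sub_eq_zero] at h1
    show φ e • n = coord (ExteriorAlgebra.ι R e * KoszulSh.Algebra.D φ ((ω : P r) : EA)) • n
    rw [← h1, map_smul, coord_ω, smul_eq_mul, mul_one]
  · obtain ⟨b, rfl⟩ := ha
    obtain ⟨b', rfl⟩ := ha'
    exact ⟨b + b', rfl⟩

end Groth.Agent.Lib.FundLocal.Algebra
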