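import Groth.Agent.Lib.FundLocal.Algebra

/-!
# Zigzags under a change of rings, and the value of a cocycle killed by the ideal
-/

set_option autoImplicit false
set_option linter.style.haveILetI false
universe u

open ExteriorAlgebra

noncomputable section

namespace Groth.Agent.Lib.FundLocal.BaseChange

open Groth.Agent.Lib Groth.Agent.Lib.FundLocal.Algebra

variable (R R' : Type u) [CommRing R] [CommRing R'] [Algebra R R'] (r : ℕ)

/-- The coordinatewise map `Rʳ → R'ʳ`. -/
def mapV : (Fin r → R) →ₗ[R] (Fin r → R') :=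
  LinearMap.pi fun i => (Algebra.linearMap R R').comp (LinearMap.proj i)

theorem mapV_basis (i : Fin r) : mapV R R' r (Pi.basisFun R (Fin r) i) = Pi.basisFun R' (Fin r) i := by
  ext j
  simp [mapV, Pi.single_apply, apply_ite (algebraMap R R')]

/-- The map on exterior powers. -/
def push (k : ℕ) : ↥(⋀[R]^k (Fin r → R)) →ₗ[R] ↥(⋀[R']^k (Fin r → R')) :=
  exteriorPower.alternatingMapLinearEquiv <| AlternatingMap.compLinearMap
    ({ ((exteriorPower.ιMulti R' k (M := Fin r → R')).toMultilinearMap.restrictScalars R) with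
        map_eq_zero_of_eq' := fun v i j h hij => (exteriorPower.ιMulti R' k).map_eq_zero_of_eq v h hij } :
      (Fin r → R') [⋀^Fin k]→ₗ[R] ↥(⋀[R']^k (Fin r → R'))) (mapV R R' r)

theorem push_ιMulti (k : ℕ) (v : Fin k → Fin r → R) :
    push R R' r k (exteriorPower.ιMulti R k v) = exteriorPower.ιMulti R' k (mapV R R' r ∘ v) :=
  exteriorPower.alternatingMapLinearEquiv_apply_ιMulti _ _

theorem push_basis (k : ℕ) (s : Set.powersetCard (Fin r) k) :
    push R R' r k ((Pi.basisFun R (Fin r)).exteriorPower k s) =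
      (Pi.basisFun R' (Fin r)).exteriorPower k s := by
  rw [exteriorPower.basis_apply, exteriorPower.basis_apply, exteriorPower.ιMulti_family,
    exteriorPower.ιMulti_family, push_ιMulti]
  congr 1
  funext j
  exact mapV_basis R R' r _

theorem push_ω : push R R' r r (ω : ↥(⋀[R]^r (Fin r → R))) = ω := by
  rw [ω, push_ιMulti]
  exact congrArg _ (funext fun i => mapV_basis R R' r i)

variable {R R' r}

theorem push_K (φ : Module.Dual R (Fin r → R)) (φ' : Module.Dual R' (Fin r → R'))
    (hφ : ∀ v, φ' (mapV R R' r v) = algebraMap R R' (φ v)) (k : ℕ) (x : ↥(⋀[R]^(k + 1) (Fin r → R))) :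
    KoszulSh.Algebra.d φ' k (push R R' r (k + 1) x) = push R R' r k (KoszulSh.Algebra.d φ k x) := by
  have h : ((KoszulSh.Algebra.d φ' k).restrictScalars R).comp (push R R' r (k + 1)) =
      (push R R' r k).comp (KoszulSh.Algebra.d φ k) := by
    refine exteriorPower.linearMap_ext (AlternatingMap.ext fun v => ?_)
    simp only [LinearMap.compAlternatingMap_apply, LinearMap.comp_apply, LinearMap.coe_restrictScalars,
      push_ιMulti, KoszulSh.Algebra.d_ιMulti, KoszSh.dGen, map_sum, map_smul]
    refine Finset.sum_congr rfl fun i _ => ?_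
    rw [algebra_compatible_smul R' ((-1 : R) ^ (i : ℕ) * φ (v i))]
    congr 1
    simp [hφ]
  exact LinearMap.congr_fun h x

section Ext

variable {N : Type u} [AddCommGroup N] [Module R' N] [Module R N] [IsScalarTower R R' N]

/-- The extension of scalars of a map out of an exterior power. -/
def extend {k : ℕ} (g : ↥(⋀[R]^k (Fin r → R)) →ₗ[R] N) : ↥(⋀[R']^k (Fin r → R')) →ₗ[R'] N :=
  ((Pi.basisFun R' (Fin r)).exteriorPower k).constr R' fun s => g ((Pi.basisFun R (Fin r)).exteriorPower k s)

theorem extend_push {k : ℕ} (g : ↥(⋀[R]^k (Fin r → R)) →ₗ[R] N) :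
    ((extend (R' := R') g).restrictScalars R).comp (push R R' r k) = g := by
  refine ((Pi.basisFun R (Fin r)).exteriorPower k).ext fun s => ?_
  rw [LinearMap.comp_apply, LinearMap.coe_restrictScalars, push_basis, extend, Module.Basis.constr_basis]

theorem ext_push {k : ℕ} {g g' : ↥(⋀[R']^k (Fin r → R')) →ₗ[R'] N}
    (h : ∀ x, g (push R R' r k x) = g' (push R R' r k x)) : g = g' := by
  refine ((Pi.basisFun R' (Fin r)).exteriorPower k).ext fun s => ?_
  rw [← push_basis R R' r k s]
  exact h _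

end Ext

variable {M M' : Type u} [AddCommGroup M] [Module R M] [AddCommGroup M'] [Module R' M'] [Module R M']
  [IsScalarTower R R' M'] {C C' : ℕ → Type u} [∀ j, AddCommGroup (C j)] [∀ j, Module R (C j)]
  [∀ j, AddCommGroup (C' j)] [∀ j, Module R' (C' j)] [∀ j, Module R (C' j)] [∀ j, IsScalarTower R R' (C' j)]
  {η : M →ₗ[R] C 0} {d : ∀ j, C j →ₗ[R] C (j + 1)} {η' : M' →ₗ[R'] C' 0}
  {d' : ∀ j, C' j →ₗ[R'] C' (j + 1)} {φ : Module.Dual R (Fin r → R)} {φ' : Module.Dual R' (Fin r → R')}

/-- Linking is compatible with a change of rings. -/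
theorem linked_baseChange (u : M →ₗ[R] M') (F : ∀ j, C j →ₗ[R] C' j)
    (hu : ∀ m, η' (u m) = F 0 (η m)) (hF : ∀ j c, d' j (F j c) = F (j + 1) (d j c))
    (hφ : ∀ v, φ' (mapV R R' r v) = algebraMap R R' (φ v)) :
    ∀ {j k : ℕ}, j + k = r → ∀ {g : ↥(⋀[R]^k (Fin r → R)) →ₗ[R] C j} {a : ExteriorAlgebra R (Fin r → R) →ₗ[R] M}
      (g' : ↥(⋀[R']^k (Fin r → R')) →ₗ[R'] C' j), (∀ x, g' (push R R' r k x) = F j (g x)) →
      Linked η d φ j k g a →
      Linked η' d' φ' j k g' ((LinearMap.toSpanSingleton R' M' (u (a (ω : ↥(⋀[R]^r (Fin r → R)))))).comp coord)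
  | 0, k, hk, g, a, g', hg', hl => by
    obtain rfl : k = r := by omega
    refine ext_push (R := R) fun x => ?_
    conv_lhs => rw [eq_coord_smul x, map_smul, push_ω, LinearMap.map_smul_of_tower]
    rw [hg']
    conv_rhs => rw [eq_coord_smul x, map_smul, map_smul]
    congr 1
    show η' (coord ((ω : ↥(⋀[R']^k (Fin k → R'))) : ExteriorAlgebra R' (Fin k → R')) •
      u (a (ω : ↥(⋀[R]^k (Fin k → R))))) = _
    rw [coord_ω, one_smul, hu]
    exact congrArg (F 0) (LinearMap.congr_fun hl ω)
  | j + 1, k, hk, g, a, g', hg', ⟨h, hh, hl⟩ => by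
    refine ⟨extend ((F j).comp h), ext_push (R := R) fun x => ?_, ?_⟩
    · rw [LinearMap.comp_apply, show extend (R' := R') ((F j).comp h) (push R R' r k x) = F j (h x) from
        LinearMap.congr_fun (extend_push ((F j).comp h)) x, hF, hg']
      exact congrArg (F (j + 1)) (LinearMap.congr_fun hh x)
    · refine linked_baseChange u F hu hF hφ (by omega) _ (fun x => ?_) hl
      rw [LinearMap.comp_apply, push_K φ φ' hφ]
      exact LinearMap.congr_fun (extend_push ((F j).comp h)) _

end Groth.Agent.Lib.FundLocal.BaseChange
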