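import Groth.Agent.S15902
import Groth.Agent.Lib.Ideal.Prime
import Groth.Agent.Lib.ExtShStalk.Vanish
import Groth.Agent.Lib.ExtShStalk.DimBound
import Groth.Prelude.Def_RegImm

/-!
# A locally complete intersection subscheme of the expected dimension is regularly immersed
-/

set_option autoImplicit false
universe u

open CategoryTheory AlgebraicGeometry TopologicalSpace

noncomputable section

namespace Groth.Agent.Lib.FundLocal.LCI

open Groth.Agent.Lib

variable {k : Type u} [Field k] {P X : Scheme.{u}} (f : P ⟶ Spec (CommRingCat.of k)) [LocallyOfFiniteType f]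
  (ι : X ⟶ P) [IsClosedImmersion ι] {n r : ℕ} (hr : r ≤ n)
  (hP : ∀ Z : Set P, Z ∈ irreducibleComponents P → topologicalKrullDim Z = (n : WithBot ℕ∞))
  (hX : topologicalKrullDim X ≤ ((n - r : ℕ) : WithBot ℕ∞))

include f hr hP hX

/-- The ideal of `X` in the local rings has height at least the codimension. -/
theorem le_height (x : X) : (r : ℕ∞) ≤ (RingHom.ker (ι.stalkMap x).hom).height := by
  haveI : IsLocallyNoetherian P := LocallyOfFiniteType.isLocallyNoetherian f
  obtain ⟨U, hU, hx, -⟩ := exists_isAffineOpen_mem_and_subset (X := P) (x := ι.base x) (U := ⊤) trivial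
  let A := Γ(P, U)
  let R := P.presheaf.stalk (ι.base x)
  letI := TopCat.Presheaf.algebra_section_stalk P.presheaf (⟨ι.base x, hx⟩ : U)
  haveI := hU.isLocalization_stalk ⟨ι.base x, hx⟩
  rw [Ideal.height_eq_inf_minimalPrimes]
  refine le_iInf₂ fun q hq => ?_
  haveI := hq.isPrime
  rw [← IsLocalization.height_under (hU.primeIdealOf ⟨ι.base x, hx⟩).asIdeal.primeCompl q]
  let q₀ : PrimeSpectrum A := ⟨q.under A, inferInstance⟩
  let z : P := hU.fromSpec q₀
  have hzU : z ∈ U := by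
    have : z ∈ Set.range hU.fromSpec := ⟨q₀, rfl⟩
    rwa [hU.range_fromSpec] at this
  have hz : hU.primeIdealOf ⟨z, hzU⟩ = q₀ := hU.fromSpec.isOpenEmbedding.injective
    (hU.fromSpec_primeIdealOf ⟨z, hzU⟩)
  have hle : ι.ker.ideal ⟨U, hU⟩ ≤ q₀.asIdeal := fun a ha => by
    refine hq.1.2 ?_
    show (ι.stalkMap x).hom (algebraMap A R a) = 0
    rw [Scheme.Hom.ker_apply, RingHom.mem_ker] at ha
    show (ι.stalkMap x).hom (P.presheaf.germ U (ι.base x) hx a) = 0
    rw [Scheme.Hom.germ_stalkMap_apply, ha, map_zero]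
  have hzι : z ∈ Set.range ι.base := by
    have h1 : z ∈ ι.ker.support := (Ideal.Prime.mem_support_iff_le_prime ι.ker ⟨U, hU⟩ hzU).2 (hz.symm ▸ hle)
    rw [← SetLike.mem_coe, Scheme.Hom.support_ker] at h1
    simpa [ι.isClosedEmbedding.isClosed_range.closure_eq] using h1
  obtain ⟨y, hy⟩ := hzι
  have h2 := ExtShStalk.DimBound.le_ringKrullDim_stalk f hP z
  rw [Ideal.Prime.ringKrullDim_stalk_eq_height hU hzU, hz] at h2
  have h3 := ExtShStalk.DimBound.fdelta_le (ι ≫ f) hX y
  rw [ExtShStalk.Vanish.fdelta_comp f ι y, hy] at h3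
  have h4 := Cyc.FieldDim.fdelta_nonneg f z
  refine le_trans ?_ (WithBot.coe_le_coe.1 (show ((((n - (Cyc.FieldDim.fdelta f z).toNat : ℕ) : ℕ∞)) :
    WithBot ℕ∞) ≤ ((q₀.asIdeal.height : ℕ∞) : WithBot ℕ∞) from h2))
  exact_mod_cast (show r ≤ n - (Cyc.FieldDim.fdelta f z).toNat by omega)

/-- It is a regular immersion. -/
theorem isRegularImmersion (hCM : ∀ p : P, LocCoh.IsCohenMacaulayLocalRing (P.presheaf.stalk p))
    (hgen : ∀ x : X, ∃ U : P.affineOpens, ι.base x ∈ U.1 ∧
      ∃ g : Fin r → Γ(P, U.1), ι.ker.ideal U = Ideal.span (Set.range g)) :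
    RegImm.IsRegularImmersionOfCodim RegImm.Kind.regular r ι := by
  haveI : IsLocallyNoetherian P := LocallyOfFiniteType.isLocallyNoetherian f
  refine ⟨inferInstance, fun x => ?_⟩
  obtain ⟨U, hx, g, hg, hreg, -⟩ := Groth.Agent.S15902.result hCM ι r hgen (le_height f ι hr hP hX) x
  have hker : RingHom.ker (ι.app U.1).hom = Ideal.ofList (List.ofFn g) := by
    rw [← Scheme.Hom.ker_apply, hg, Ideal.ofList]
    congr 1
    ext a
    simp [List.mem_ofFn]
  have htop : (⊤ : Ideal Γ(P, U.1)) ≠ Ideal.ofList (List.ofFn g) • ⊤ := by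
    intro h
    rw [Ideal.smul_eq_mul, Ideal.mul_top, ← hker] at h
    have h1 : (1 : Γ(P, U.1)) ∈ RingHom.ker (ι.app U.1).hom := h ▸ Submodule.mem_top
    rw [RingHom.mem_ker, map_one] at h1
    have h2 := congrArg (X.presheaf.germ (ι ⁻¹ᵁ U.1) x hx) h1
    rw [map_one, map_zero] at h2
    exact one_ne_zero h2
  exact ⟨U, hx, inferInstance, List.ofFn g, List.length_ofFn, ⟨hreg, htop⟩, hker⟩

end Groth.Agent.Lib.FundLocal.LCI
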