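import Groth.Agent.Lib.ExtHH.SheafHom
import Groth.Agent.Lib.ProjCoh.DualityCM
import Groth.Agent.Lib.ProjSpace.SmoothDimEq
import Groth.Agent.Lib.GrassGen.ExtPowFree
import Groth.Agent.Lib.WeilExt.Basic
import Groth.Agent.Lib.JacCrit.FlatRegular
import Groth.Agent.S11924

/-!
# Serre duality for smooth projective schemes over any field
-/

set_option autoImplicit false
set_option linter.style.haveILetI false
universe u

open CategoryTheory CategoryTheory.Limits AlgebraicGeometry
open ProjDual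

noncomputable section

namespace Groth.Agent.Lib.FundLocal.SerreDual

open Groth.Agent.Lib

/-- `H^p(F)^* ≅ H^{n-p}(ℋom(F, ω))`. -/
theorem nonempty_dual_equiv (k : Type u) [Field k] (n r : ℕ) (X : Scheme.{u}) [X.Over (Spec (CommRingCat.of k))]
    [SmoothOfRelativeDimension n (X ↘ Spec (CommRingCat.of k))] (ι : X ⟶ CohB1.ProjSpace r k)
    [IsClosedImmersion ι] (hι : ι ≫ CohB1.ProjSpace.toSpec r k = X ↘ Spec (CommRingCat.of k)) (L : X.Modules)
    (hL : ExtPow.IsExtPow n (Omega.sheaf (X ↘ Spec (CommRingCat.of k))) L) (F : X.Modules)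
    (hF : FlatMod.IsFinLocFree F) [DCoh.HasSheafHom F] (p : ℕ) (hp : p ≤ n) :
    Nonempty (Module.Dual k (Coh.HH X F p) ≃ₗ[k] Coh.HH X ((DCoh.sheafHom F).obj L) (n - p)) := by
  haveI : HasExt.{u} X.Modules := hasExt_of_enoughInjectives _
  haveI : Smooth (X ↘ Spec (CommRingCat.of k)) :=
    SmoothOfRelativeDimension.smooth n (X ↘ Spec (CommRingCat.of k))
  haveI := ProjCoh.ClosedSub.isLocallyNoetherian ι
  haveI : IsProper (X ↘ Spec (CommRingCat.of k)) := by
    rw [← hι]
    haveI := ProjSpace.Basic.isProper_toSpec r k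
    infer_instance
  haveI : CompactSpace X := QuasiCompact.compactSpace_of_compactSpace (X ↘ Spec (CommRingCat.of k))
  have hCoh : Coh.IsCoh L := CurveBundle.Coherent.isCoh
    (GrassGen.ExtPowFree.isFinLocFree
      (Kaehler.LocFree.isFinLocFree_of_smooth
        (Kaehler.DOmega.isUniversal_dOmega (X ↘ Spec (CommRingCat.of k)))) hL)
  obtain ⟨t, ht⟩ := Groth.Agent.S11924.result k r n X ι hι L hL
  have hreg := fun x => WeilExt.Basic.isRegularLocalRing_stalk (X ↘ Spec (CommRingCat.of k)) x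
  have he := ProjCoh.DualityCM.hasEff ι L hCoh (n := n) fun x hx =>
    ProjCoh.DualityCM.depth_of_cm
      (haveI := hreg x; JacCrit.FlatRegular.isCohenMacaulayLocalRing _)
      (ProjSpace.SmoothDimEq.ringKrullDim_stalk_closed k (X ↘ Spec (CommRingCat.of k)) n hx)
  obtain ⟨e⟩ := ProjCoh.DualityCM.nonempty_equiv (t := t) ht he (n - p) p (by omega) F
    (CurveBundle.Coherent.isCoh hF)
  exact ⟨e.symm.trans (ExtHH.SheafHom.extLinearEquiv k hF L (n - p))⟩

end Groth.Agent.Lib.FundLocal.SerreDual
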