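import Groth.Agent.Lib.QCoh.Localizing
import Groth.Agent.Lib.CohBasics.Affine

/-!
# Affine sections of the sheafification of a localising presheaf
-/

set_option autoImplicit false
set_option linter.style.haveILetI false
universe u

open CategoryTheory AlgebraicGeometry Opposite TopologicalSpace

noncomputable section

namespace Groth.Agent.Lib.FundLocal.ShAffine

open Groth.Agent.Lib
open Groth.Agent.Lib.QCoh.Localizing

variable {X : Scheme.{u}} {L : X.Modules} {A : X.Opens → Type u} [∀ U, AddCommGroup (A U)]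
  [∀ U : X.Opens, Module Γ(X, U) (A U)] (pr : ∀ {U V : X.Opens}, V ≤ U → A U →+ A V)
  (η : ∀ U : X.Opens, A U →ₗ[Γ(X, U)] Γ(L, U))

/-- The hypotheses: `η` is the sheafification of a presheaf `A` of modules which localises on
affine opens. -/
structure IsUnit : Prop where
  smul : ∀ {U V : X.Opens} (h : V ≤ U) (r : Γ(X, U)) (a : A U), pr h (r • a) = resR h r • pr h a
  comp : ∀ {U V W : X.Opens} (h : V ≤ U) (h' : W ≤ V) (a : A U), pr h' (pr h a) = pr (h'.trans h) a
  nat : ∀ {U V : X.Opens} (h : V ≤ U) (a : A U), res L h (η U a) = η V (pr h a)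
  linj : ∀ {U : X.Opens} (a : A U), η U a = 0 → ∀ x ∈ U,
    ∃ (V : X.Opens) (h : V ≤ U), x ∈ V ∧ pr h a = 0
  lsurj : ∀ {U : X.Opens} (t : Γ(L, U)) (x : X), x ∈ U →
    ∃ (V : X.Opens) (h : V ≤ U) (a : A V), x ∈ V ∧ η V a = res L h t
  sep : ∀ {U : X.Opens}, IsAffineOpen U → ∀ (f : Γ(X, U)) (a : A U),
    pr (X.basicOpen_le f) a = 0 → ∃ n : ℕ, f ^ n • a = 0
  ext' : ∀ {U : X.Opens}, IsAffineOpen U → ∀ (f : Γ(X, U)) (b : A (X.basicOpen f)),
    ∃ (n : ℕ) (a : A U), pr (X.basicOpen_le f) a = resR (X.basicOpen_le f) f ^ n • b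

variable {pr η}

theorem injective (H : IsUnit pr η) {U : X.Opens} (hU : IsAffineOpen U) :
    Function.Injective (η U) := by
  refine (injective_iff_map_eq_zero (η U)).2 fun a ha => ?_
  let I : Ideal Γ(X, U) := Submodule.comap (LinearMap.toSpanSingleton Γ(X, U) (A U) a) ⊥
  have h1 : (1 : Γ(X, U)) ∈ I := by
    rw [CohBasics.Affine.ideal_eq_top hU I fun x hx => ?_]
    · trivial
    · obtain ⟨V, h, hxV, hV⟩ := H.linj a ha x hx
      obtain ⟨f, hfV, hxf⟩ := hU.exists_basicOpen_le ⟨x, hxV⟩ hx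
      obtain ⟨n, hn⟩ := H.sep hU f a (by rw [← H.comp h hfV a, hV, map_zero])
      refine ⟨f ^ (n + 1), ?_, by rwa [Scheme.basicOpen_pow X f n.succ_pos]⟩
      show f ^ (n + 1) • a = 0
      rw [pow_succ', mul_smul, hn, smul_zero]
  simpa [I] using h1

theorem separates (H : IsUnit pr η) {U : X.Opens} (hU : IsAffineOpen U) (f : Γ(X, U)) :
    Separates L f := by
  intro u hu
  have hloc : ∀ x : U, ∃ (g : Γ(X, U)) (n : ℕ), x.1 ∈ X.basicOpen g ∧
      res L (X.basicOpen_le g) (f ^ n • u) = 0 := by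
    rintro ⟨x, hx⟩
    obtain ⟨V, h, a, hxV, ha⟩ := H.lsurj u x hx
    obtain ⟨g, hgV, hxg⟩ := hU.exists_basicOpen_le ⟨x, hxV⟩ hx
    let a' := pr hgV a
    have ha' : η _ a' = res L (X.basicOpen_le g) u := by
      rw [← H.nat, ha, res_res]
    have hle : X.basicOpen (resR (X.basicOpen_le g) f) ≤ X.basicOpen f :=
      basicOpen_le_of_resR _ f
    obtain ⟨n, hn⟩ := H.sep (hU.basicOpen g) (resR (X.basicOpen_le g) f) a'
      (injective H ((hU.basicOpen g).basicOpen _) (by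
        rw [← H.nat, ha', res_res, map_zero, ← res_res (X.basicOpen_le f) hle, hu, map_zero]))
    refine ⟨g, n, hxg, ?_⟩
    rw [res_smul, ← ha', map_pow, ← (η _).map_smul, hn, map_zero]
  choose g n hxg hg using hloc
  obtain ⟨T, hT⟩ := hU.isCompact.elim_finite_subcover (fun x : U => (X.basicOpen (g x) : Set X))
    (fun x => (X.basicOpen (g x)).2) (fun x hx => Set.mem_iUnion.2 ⟨⟨x, hx⟩, hxg ⟨x, hx⟩⟩)
  refine ⟨T.sup n, TopCat.Sheaf.eq_of_locally_eq' ⟨_, L.isSheaf⟩ (fun x : T => X.basicOpen (g x.1)) U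
    (fun x => homOfLE (X.basicOpen_le _)) (fun x hx => ?_) _ _ fun x => ?_⟩
  · obtain ⟨y, hy, hxy⟩ := Set.mem_iUnion₂.1 (hT hx)
    exact Opens.mem_iSup.2 ⟨⟨y, hy⟩, hxy⟩
  · change res L _ (f ^ T.sup n • u) = res L _ 0
    obtain ⟨k, hk⟩ := Nat.exists_eq_add_of_le (Finset.le_sup (f := n) x.2)
    rw [hk, add_comm, pow_add, mul_smul, res_smul, hg x.1, smul_zero, map_zero]

/-- On affine opens nothing changes. -/
theorem bijective (H : IsUnit pr η) {U : X.Opens} (hU : IsAffineOpen U) :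
    Function.Bijective (η U) := by
  refine ⟨injective H hU, fun t => ?_⟩
  let I : Ideal Γ(X, U) :=
    Submodule.comap (LinearMap.toSpanSingleton Γ(X, U) Γ(L, U) t) (LinearMap.range (η U))
  have h1 : (1 : Γ(X, U)) ∈ I := by
    rw [CohBasics.Affine.ideal_eq_top hU I fun x hx => ?_]
    · trivial
    · obtain ⟨V, h, b, hxV, hb⟩ := H.lsurj t x hx
      obtain ⟨g, hgV, hxg⟩ := hU.exists_basicOpen_le ⟨x, hxV⟩ hx
      obtain ⟨n, a, ha⟩ := H.ext' hU g (pr hgV b)
      obtain ⟨k, hk⟩ := separates H hU g (η U a - g ^ n • t) (by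
        rw [map_sub, H.nat, ha, map_smul, ← H.nat, hb, res_res, res_smul, map_pow, sub_self])
      refine ⟨g ^ (k + n + 1), ?_, by rwa [Scheme.basicOpen_pow X g (k + n).succ_pos]⟩
      show g ^ (k + n + 1) • t ∈ LinearMap.range (η U)
      refine ⟨g • g ^ k • a, ?_⟩
      rw [smul_sub, sub_eq_zero, smul_smul] at hk
      rw [map_smul, map_smul, hk, smul_smul, pow_succ', pow_add]
  simpa [I] using h1

end Groth.Agent.Lib.FundLocal.ShAffine
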