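import Groth.Agent.Lib.FundLocal.Value
import Groth.Agent.Lib.Conormal92.Affine
import Groth.Agent.Lib.StalkLoc.Basic
import Groth.Agent.H95.ExtPowQCoh
import Groth.Agent.S18939
import Groth.Agent.S15821
import Groth.Prelude.Def_RegImm

/-!
# Generators of the stalks of the top exterior power of the conormal sheaf
-/

set_option autoImplicit false
set_option linter.style.haveILetI false
universe u

open CategoryTheory CategoryTheory.Limits AlgebraicGeometry Opposite TopologicalSpace

noncomputable section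

namespace Groth.Agent.Lib.FundLocal.Wedge

open Groth.Agent.Lib Groth.Agent.Lib.Modules Groth.Agent.Lib.QCoh.Localizing OmegaSh

variable {P X : Scheme.{u}} (ι : X ⟶ P) [IsClosedImmersion ι] {r : ℕ} {L : X.Modules}
  (hL : ExtPow.IsExtPow r (Omega.conormal ι) L)

/-- The wedge of the classes of ideal sections. -/
def wedgeSec (V : P.Opens) (hV : IsAffineOpen V) (k : Fin r → Γ(ClSub.idealMod ι.ker, V)) :
    Γ(L, ι ⁻¹ᵁ V) :=
  (hL.choose ⟨ι ⁻¹ᵁ V, hV.preimage ι⟩).symm
    (exteriorPower.ιMulti Γ(X, ι ⁻¹ᵁ V) r (M := (Omega.conormal ι).val.obj (op (ι ⁻¹ᵁ V)))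
      fun i => conormalSect ι V (k i))

theorem wedgeSec_res {V' V : P.Opens} (h : V' ≤ V) (hV : IsAffineOpen V) (hV' : IsAffineOpen V')
    (k : Fin r → Γ(ClSub.idealMod ι.ker, V)) :
    res L (ι.preimage_mono h) (wedgeSec ι hL V hV k) =
      wedgeSec ι hL V' hV' fun i => res (ClSub.idealMod ι.ker) h (k i) := by
  refine (hL.choose_spec ⟨ι ⁻¹ᵁ V, hV.preimage ι⟩ ⟨ι ⁻¹ᵁ V', hV'.preimage ι⟩ (ι.preimage_mono h) _).trans ?_
  show (hL.choose _).symm (exteriorPower.ιMulti _ r _) = (hL.choose _).symm (exteriorPower.ιMulti _ r _)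
  congr 2
  funext i
  exact (Kaehler.Conormal.conormalSect_map ι h (k i)).symm

/-- `l` is the wedge of the classes of `f`. -/
def IsGen (x : X) (f : Fin r → P.presheaf.stalk (ι.base x)) (l : L.presheaf.stalk x) : Prop :=
  ∃ (V : P.Opens) (hV : IsAffineOpen V) (hx : ι.base x ∈ V) (k : Fin r → Γ(ClSub.idealMod ι.ker, V)),
    (∀ i, P.presheaf.germ V (ι.base x) hx (idealSect ι.ker V (k i)) = f i) ∧
      L.presheaf.germ (ι ⁻¹ᵁ V) x hx (wedgeSec ι hL V hV k) = l

theorem isGen_res {x : X} {V' V : P.Opens} (h : V' ≤ V) (hV : IsAffineOpen V) (hV' : IsAffineOpen V')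
    (hx : ι.base x ∈ V') (k : Fin r → Γ(ClSub.idealMod ι.ker, V)) :
    L.presheaf.germ (ι ⁻¹ᵁ V) x (h hx) (wedgeSec ι hL V hV k) =
      L.presheaf.germ (ι ⁻¹ᵁ V') x hx (wedgeSec ι hL V' hV' fun i => res (ClSub.idealMod ι.ker) h (k i)) := by
  rw [← wedgeSec_res ι hL h hV hV']
  exact (TopCat.Presheaf.germ_res_apply L.presheaf (homOfLE (ι.preimage_mono h)) x hx _).symm

/-- The wedge changes by the determinant. -/
theorem isGen_det {x : X} {f f' : Fin r → P.presheaf.stalk (ι.base x)} {l l' : L.presheaf.stalk x}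
    (hf : IsGen ι hL x f l) (hf' : IsGen ι hL x f' l') (T : Matrix (Fin r) (Fin r) (P.presheaf.stalk (ι.base x)))
    (hT : ∀ i, f' i = ∑ j, T j i * f j) : l' = (ι.stalkMap x).hom T.det • l := by
  obtain ⟨V, hV, hx, k, hk, rfl⟩ := hf
  obtain ⟨V', hV', hx', k', hk', rfl⟩ := hf'
  choose U hU t ht using fun p : Fin r × Fin r => TopCat.Presheaf.exists_germ_eq P.presheaf (T p.1 p.2)
  obtain ⟨W₀, hW₀, hWV, hWV', hWU⟩ : ∃ W₀ : P.Opens, ι.base x ∈ W₀ ∧ W₀ ≤ V ∧ W₀ ≤ V' ∧ ∀ p, W₀ ≤ U p := by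
    classical
    refine ⟨V ⊓ V' ⊓ Finset.univ.inf U, ⟨⟨hx, hx'⟩, ?_⟩, inf_le_left.trans inf_le_left,
      inf_le_left.trans inf_le_right, fun p => inf_le_right.trans (Finset.inf_le (Finset.mem_univ p))⟩
    suffices H : ∀ S : Finset (Fin r × Fin r), ι.base x ∈ S.inf U from H _
    intro S
    induction S using Finset.induction_on with
    | empty => rw [Finset.inf_empty]; exact trivial
    | insert a S _ ih => rw [Finset.inf_insert]; exact ⟨hU a, ih⟩
  have heq : ∀ i, ∃ (W : P.Opens) (hW : W ≤ W₀), ι.base x ∈ W ∧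
      idealSect ι.ker W (res (ClSub.idealMod ι.ker) (hW.trans hWV') (k' i)) =
        ∑ j, resR (hW.trans (hWU (j, i))) (t (j, i)) *
          idealSect ι.ker W (res (ClSub.idealMod ι.ker) (hW.trans hWV) (k j)) := by
    intro i
    have e : P.presheaf.germ W₀ (ι.base x) hW₀ (idealSect ι.ker W₀ (res (ClSub.idealMod ι.ker) hWV' (k' i))) =
        P.presheaf.germ W₀ (ι.base x) hW₀ (∑ j, resR (hWU (j, i)) (t (j, i)) *
          idealSect ι.ker W₀ (res (ClSub.idealMod ι.ker) hWV (k j))) := by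
      rw [Kaehler.Conormal.idealSect_map, TopCat.Presheaf.germ_res_apply, hk', hT, map_sum]
      refine Finset.sum_congr rfl fun j _ => ?_
      rw [map_mul, TopCat.Presheaf.germ_res_apply, ht, Kaehler.Conormal.idealSect_map,
        TopCat.Presheaf.germ_res_apply, hk]
    obtain ⟨W, hxW, i1, i2, e'⟩ := TopCat.Presheaf.germ_eq P.presheaf _ hW₀ hW₀ _ _ e
    refine ⟨W, i1.le, hxW, ?_⟩
    simp only [Kaehler.Conormal.idealSect_map] at e' ⊢
    rw [map_sum] at e'
    simp only [map_mul] at e'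
    simp only [← CommRingCat.comp_apply, ← Functor.map_comp] at e' ⊢
    exact e'
  choose W hW hxW hWeq using heq
  obtain ⟨V₁, hV₁, hxV₁, hV₁W⟩ : ∃ V₁ : P.Opens, IsAffineOpen V₁ ∧ ι.base x ∈ V₁ ∧ V₁ ≤ W₀ ⊓ Finset.univ.inf W := by
    refine exists_isAffineOpen_mem_and_subset ⟨hW₀, ?_⟩
    suffices H : ∀ S : Finset (Fin r), ι.base x ∈ S.inf W from H _
    intro S
    classical
    induction S using Finset.induction_on with
    | empty => rw [Finset.inf_empty]; exact trivial
    | insert a S _ ih => rw [Finset.inf_insert]; exact ⟨hxW a, ih⟩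
  have h0 : V₁ ≤ W₀ := hV₁W.trans inf_le_left
  have hi : ∀ i, V₁ ≤ W i := fun i => hV₁W.trans (inf_le_right.trans (Finset.inf_le (Finset.mem_univ i)))
  rw [isGen_res ι hL (h0.trans hWV) hV hV₁ hxV₁ k, isGen_res ι hL (h0.trans hWV') hV' hV₁ hxV₁ k']
  let k₁ := fun j => res (ClSub.idealMod ι.ker) (h0.trans hWV) (k j)
  let t₁ : Matrix (Fin r) (Fin r) Γ(P, V₁) := fun j i => resR (h0.trans (hWU (j, i))) (t (j, i))
  have hk₁ : ∀ i, res (ClSub.idealMod ι.ker) (h0.trans hWV') (k' i) = ∑ j, t₁ j i • k₁ j := fun i => by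
    refine Kaehler.Conormal.idealSect_injective ι V₁ ?_
    rw [map_sum]
    simp only [Kaehler.Conormal.idealSect_smul]
    have e := congrArg (resR (hi i)) (hWeq i)
    rw [map_sum] at e
    simp only [map_mul, ← Kaehler.Conormal.idealSect_map, resR_resR] at e
    exact (congrArg (idealSect ι.ker V₁) (QCoh.Localizing.res_res (hW i |>.trans hWV') (hi i) (k' i)).symm).trans
      (e.trans (Finset.sum_congr rfl fun j _ => congrArg _
        (congrArg (idealSect ι.ker V₁) (QCoh.Localizing.res_res (hW i |>.trans hWV) (hi i) (k j)))))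
  have hw : wedgeSec ι hL V₁ hV₁ (fun i => res (ClSub.idealMod ι.ker) (h0.trans hWV') (k' i)) =
      (ι.app V₁ t₁.det) • wedgeSec ι hL V₁ hV₁ k₁ := by
    unfold wedgeSec
    refine Eq.trans (congrArg _ ?_) ((hL.choose ⟨ι ⁻¹ᵁ V₁, hV₁.preimage ι⟩).symm.map_smul (ι.app V₁ t₁.det) _)
    let B := Γ(X, ι ⁻¹ᵁ V₁)
    let c : Fin r → (Omega.conormal ι).val.obj (op (ι ⁻¹ᵁ V₁)) := fun j => conormalSect ι V₁ (k₁ j)
    let lc := Fintype.linearCombination B c
    let t' : Matrix (Fin r) (Fin r) B := t₁.map (ι.app V₁).hom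
    have h1 : (fun i => conormalSect ι V₁ (res (ClSub.idealMod ι.ker) (h0.trans hWV') (k' i)) :
        Fin r → (Omega.conormal ι).val.obj (op (ι ⁻¹ᵁ V₁))) =
        lc ∘ fun i => Matrix.toLin' t' (Pi.basisFun B (Fin r) i) := funext fun i => by
      rw [hk₁]
      show conormalSect ι V₁ (∑ j, t₁ j i • k₁ j) = lc (Matrix.toLin' t' (Pi.basisFun B (Fin r) i))
      rw [map_sum, Fintype.linearCombination_apply]
      refine Finset.sum_congr rfl fun j _ => ?_
      rw [Kaehler.Conormal.conormalSect_smul, Pi.basisFun_apply, Matrix.toLin'_apply, Matrix.mulVec_single_one]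
      rfl
    have h2 : c = lc ∘ Pi.basisFun B (Fin r) := funext fun j => by
      rw [Function.comp_apply, Pi.basisFun_apply]
      exact ((Fintype.linearCombination_apply_single (R := B) (v := c) j 1).trans (one_smul B (c j))).symm
    show exteriorPower.ιMulti B r (fun i => conormalSect ι V₁ (res (ClSub.idealMod ι.ker) (h0.trans hWV') (k' i)) :
        Fin r → (Omega.conormal ι).val.obj (op (ι ⁻¹ᵁ V₁))) = ι.app V₁ t₁.det • exteriorPower.ιMulti B r c
    rw [h1, h2]
    refine (exteriorPower.map_apply_ιMulti lc _).symm.trans (Eq.trans ?_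
      (congrArg (ι.app V₁ t₁.det • ·) (exteriorPower.map_apply_ιMulti lc _)))
    rw [show exteriorPower.ιMulti B r (fun i => Matrix.toLin' t' (Pi.basisFun B (Fin r) i)) =
        exteriorPower.map r (Matrix.toLin' t') (Algebra.ω : ↥(⋀[B]^r (Fin r → B))) from
      (exteriorPower.map_apply_ιMulti _ _).symm, Algebra.map_ω, _root_.map_smul, LinearMap.det_toLin']
    congr 1
    exact (RingHom.map_det (ι.app V₁).hom t₁).symm
  rw [hw, StalkModule.germ_smul]
  congr 1
  rw [← Scheme.Hom.germ_stalkMap_apply ι V₁ x hxV₁]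
  congr 1
  rw [RingHom.map_det]
  congr 1
  ext j i
  rw [RingHom.mapMatrix_apply, Matrix.map_apply]
  exact (TopCat.Presheaf.germ_res_apply P.presheaf _ _ _ _).trans (ht (j, i))

/-- On a regular chart the wedge generates the stalks freely. -/
theorem bijective_toSpanSingleton {V : P.Opens} (hV : IsAffineOpen V) (f : Fin r → Γ(P, V))
    (hreg : RingTheory.Sequence.IsWeaklyRegular Γ(P, V) (List.ofFn f))
    (hspan : RingHom.ker (ι.app V).hom = Ideal.span (Set.range f)) (x : X) (hx : ι.base x ∈ V)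
    (k : Fin r → Γ(ClSub.idealMod ι.ker, V)) (hk : ∀ i, idealSect ι.ker V (k i) = f i) :
    Function.Bijective (LinearMap.toSpanSingleton (X.presheaf.stalk x) (L.presheaf.stalk x)
      (L.presheaf.germ (ι ⁻¹ᵁ V) x hx (wedgeSec ι hL V hV k))) := by
  let B := Γ(X, ι ⁻¹ᵁ V)
  let C := (Omega.conormal ι).val.obj (op (ι ⁻¹ᵁ V))
  have hch : Conormal92.Affine.IsChart ι V := Conormal92.Affine.isChart_of_closed ι hV
  let I := RingHom.ker (ι.app V).hom
  have hmem : ∀ i, f i ∈ I := fun i => hspan.ge (Ideal.subset_span ⟨i, rfl⟩)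
  have hI : I ≠ ⊤ := by
    intro h
    have h1 : (1 : Γ(P, V)) ∈ I := h ▸ Submodule.mem_top
    rw [RingHom.mem_ker, map_one] at h1
    have h2 := congrArg (X.presheaf.germ (ι ⁻¹ᵁ V) x hx) h1
    rw [map_one, map_zero] at h2
    exact one_ne_zero h2
  obtain ⟨b, hb⟩ := Groth.Agent.S18939.result hI r (fun i => ⟨f i, hmem i⟩)
    (Groth.Agent.S15821.result _ _ hreg).1 hspan.symm
  letI := Conormal92.Affine.moduleConormal ι V
  obtain ⟨e, he⟩ := Conormal92.Affine.exists_cotangentEquiv hch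
  let c : Fin r → C := fun i => conormalSect ι V (k i)
  have hec : ∀ i, e (b i) = c i := fun i => by
    rw [hb]
    refine Eq.trans (congrArg e (congrArg _ ?_)) (he (k i) ((hk i).symm ▸ hmem i))
    exact Subtype.ext (hk i).symm
  have hcB : Function.Bijective (Fintype.linearCombination B c) := by
    constructor
    · rw [injective_iff_map_eq_zero]
      intro v hv
      choose a ha using fun i => hch.surj (v i)
      have : e (∑ i, (Ideal.Quotient.mk I (a i)) • b i) = 0 := by
        rw [map_sum]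
        refine Eq.trans ?_ hv
        rw [Fintype.linearCombination_apply]
        refine Finset.sum_congr rfl fun i _ => ?_
        rw [← Ideal.Quotient.algebraMap_eq, algebraMap_smul, _root_.map_smul, hec, ← ha i]
        rfl
      have h2 := (Fintype.linearIndependent_iff.1 b.linearIndependent) _ (e.map_eq_zero_iff.1 this)
      refine funext fun i => ?_
      rw [← ha i]
      exact Ideal.Quotient.eq_zero_iff_mem.1 (h2 i)
    · intro y
      obtain ⟨z, rfl⟩ := e.surjective y
      choose a ha using fun i => Ideal.Quotient.mk_surjective (b.repr z i)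
      refine ⟨fun i => ι.app V (a i), ?_⟩
      conv_rhs => rw [← b.sum_repr z, map_sum]
      rw [Fintype.linearCombination_apply]
      refine Finset.sum_congr rfl fun i _ => ?_
      rw [← ha i, ← Ideal.Quotient.algebraMap_eq, algebraMap_smul, _root_.map_smul, hec]
      rfl
  let E := LinearEquiv.ofBijective _ hcB
  let φ := hL.choose ⟨ι ⁻¹ᵁ V, hV.preimage ι⟩
  have hc : c = E ∘ Pi.basisFun B (Fin r) := funext fun j => by
    show c j = Fintype.linearCombination B c (Pi.basisFun B (Fin r) j)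
    rw [Pi.basisFun_apply]
    exact ((Fintype.linearCombination_apply_single (R := B) (v := c) j 1).trans (one_smul B (c j))).symm
  have hgen : ∀ s : Γ(L, ι ⁻¹ᵁ V), ∃ a : B, s = a • wedgeSec ι hL V hV k := fun s => by
    let y : ↥(⋀[B]^r (Fin r → B)) := exteriorPower.map r E.symm.toLinearMap (φ s)
    refine ⟨Algebra.coord (y : ExteriorAlgebra B (Fin r → B)), φ.injective ?_⟩
    refine Eq.trans ?_ (φ.map_smul _ _).symm
    rw [wedgeSec, LinearEquiv.apply_symm_apply]
    have h1 : exteriorPower.map r E.toLinearMap y = φ s := by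
      rw [← LinearMap.comp_apply, ← exteriorPower.map_comp]
      simp
    rw [← h1, Algebra.eq_coord_smul y, _root_.map_smul, Algebra.ω, exteriorPower.map_apply_ιMulti]
    congr 2
    · rw [← Algebra.ω, ← Algebra.eq_coord_smul y]
    · exact hc.symm
  have hfree : ∀ a : B, a • wedgeSec ι hL V hV k = 0 → a = 0 := fun a ha => by
    have h1 := congrArg (exteriorPower.map r E.symm.toLinearMap) (congrArg φ ha)
    replace h1 := (congrArg (exteriorPower.map r E.symm.toLinearMap)
      (φ.map_smul a (wedgeSec ι hL V hV k))).symm.trans (h1.trans (congrArg _ (map_zero φ)))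
    rw [wedgeSec, LinearEquiv.apply_symm_apply, map_zero] at h1
    replace h1 := ((exteriorPower.map r E.symm.toLinearMap).map_smul a _).symm.trans h1
    rw [exteriorPower.map_apply_ιMulti] at h1
    rw [show (E.symm.toLinearMap ∘ fun i => conormalSect ι V (k i)) = Pi.basisFun B (Fin r) from
      funext fun i => E.symm_apply_eq.2 (congrFun hc i)] at h1
    have h2 := congrArg (fun z : ↥(⋀[B]^r (Fin r → B)) => Algebra.coord (z : ExteriorAlgebra B (Fin r → B))) h1
    simp only [Submodule.coe_smul, _root_.map_smul, smul_eq_mul, Submodule.coe_zero, map_zero] at h2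
    rw [show exteriorPower.ιMulti B r (Pi.basisFun B (Fin r)) = Algebra.ω from rfl, Algebra.coord_ω, mul_one] at h2
    exact h2
  haveI := Conormal92.Affine.isQCoh_conormal ι
  haveI : L.IsQuasicoherent := H95.ExtPowQCoh.isQuasicoherent_of_loc r hL.choose hL.choose_spec
  have hW : IsAffineOpen (ι ⁻¹ᵁ V) := hV.preimage ι
  letI := TopCat.Presheaf.algebra_section_stalk X.presheaf (⟨x, hx⟩ : (ι ⁻¹ᵁ V : X.Opens))
  letI := StalkLoc.Basic.moduleSections L (U := ι ⁻¹ᵁ V) hx
  haveI := StalkLoc.Basic.isScalarTower_sections L (U := ι ⁻¹ᵁ V) hx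
  haveI := hW.isLocalization_stalk ⟨x, hx⟩
  haveI := StalkLoc.Basic.isLocalizedModule_germ (M := L) hW hx
  constructor
  · rw [injective_iff_map_eq_zero]
    intro a ha
    obtain ⟨⟨a', s⟩, hs⟩ := IsLocalization.surj (hW.primeIdealOf ⟨x, hx⟩).asIdeal.primeCompl a
    have hu : IsUnit (algebraMap B (X.presheaf.stalk x) s) := IsLocalization.map_units _ s
    have h1 : L.presheaf.germ (ι ⁻¹ᵁ V) x hx (a' • wedgeSec ι hL V hV k) = 0 := by
      rw [StalkModule.germ_smul]
      show algebraMap B (X.presheaf.stalk x) a' • _ = 0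
      rw [← hs, mul_comm, mul_smul]
      exact (congrArg _ ha).trans (smul_zero _)
    obtain ⟨g, hgx, hg⟩ := (StalkLoc.Basic.germ_eq_zero_iff hW hx _).1 h1
    rw [smul_smul] at hg
    have h2 := congrArg (X.presheaf.germ (ι ⁻¹ᵁ V) x hx) (hfree _ hg)
    rw [map_mul, map_zero] at h2
    have h3 : algebraMap B (X.presheaf.stalk x) a' = 0 :=
      ((X.mem_basicOpen g x hx).mp hgx).mul_right_eq_zero.mp h2
    rw [h3] at hs
    exact hu.mul_left_eq_zero.mp hs
  · intro v
    obtain ⟨⟨s₀, s⟩, hs⟩ := IsLocalizedModule.surj (hW.primeIdealOf ⟨x, hx⟩).asIdeal.primeCompl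
      (StalkLoc.Basic.germₗ L (U := ι ⁻¹ᵁ V) hx) v
    have hu : IsUnit (algebraMap B (X.presheaf.stalk x) s) := IsLocalization.map_units _ s
    obtain ⟨a, rfl⟩ := hgen s₀
    refine ⟨↑hu.unit⁻¹ * algebraMap B (X.presheaf.stalk x) a, ?_⟩
    rw [LinearMap.toSpanSingleton_apply, mul_smul]
    show (↑hu.unit⁻¹ : X.presheaf.stalk x) • (X.presheaf.germ (ι ⁻¹ᵁ V) x hx a • _) = v
    rw [← StalkModule.germ_smul]
    refine (congrArg (fun w => (↑hu.unit⁻¹ : X.presheaf.stalk x) • w) hs.symm).trans ?_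
    show (↑hu.unit⁻¹ : X.presheaf.stalk x) • (algebraMap B (X.presheaf.stalk x) s • v) = v
    rw [smul_smul, IsUnit.val_inv_mul, one_smul]

end Groth.Agent.Lib.FundLocal.Wedge
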