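import Mathlib.LinearAlgebra.ExteriorAlgebra.Grading
import Mathlib.LinearAlgebra.ExteriorPower.Basis
import Mathlib.Algebra.BigOperators.Fin

/-!
# The wedge pairing of complementary exterior powers
-/

set_option autoImplicit false
set_option linter.unusedVariables false
universe u

open exteriorPower

noncomputable section

namespace Groth.Agent.Lib.FundLocal.WedgeAlg

variable {R M : Type u} [CommRing R] [AddCommGroup M] [Module R M] (p q : ℕ)

/-- The wedge product `⋀^p × ⋀^q → ⋀^(p+q)`. -/
def wedge : ↥(⋀[R]^p M) →ₗ[R] ↥(⋀[R]^q M) →ₗ[R] ↥(⋀[R]^(p + q) M) :=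
  LinearMap.mk₂ R (fun x y => ⟨x.1 * y.1, SetLike.mul_mem_graded x.2 y.2⟩)
    (fun x x' y => Subtype.ext (add_mul _ _ _)) (fun c x y => Subtype.ext (smul_mul_assoc _ _ _))
    (fun x y y' => Subtype.ext (mul_add _ _ _)) (fun c x y => Subtype.ext (mul_smul_comm _ _ _))

theorem wedge_ιMulti (u : Fin p → M) (v : Fin q → M) :
    wedge p q (ιMulti R p u) (ιMulti R q v) = ιMulti R (p + q) (Fin.append u v) := by
  refine Subtype.ext ?_
  show (ιMulti R p u).1 * (ιMulti R q v).1 = _
  rw [ιMulti_apply_coe, ιMulti_apply_coe, ιMulti_apply_coe, ExteriorAlgebra.ιMulti_apply,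
    ExteriorAlgebra.ιMulti_apply, ExteriorAlgebra.ιMulti_apply, ← List.prod_append]
  congr 1
  rw [← List.ofFn_fin_append]
  congr 1
  funext i
  induction i using Fin.addCases with
  | left i => simp
  | right i => simp

variable {p q} {n : ℕ} (hn : p + q = n)

/-- The top component. -/
def pairing : ↥(⋀[R]^p M) →ₗ[R] ↥(⋀[R]^q M) →ₗ[R] ↥(⋀[R]^n M) :=
  hn ▸ wedge p q

theorem pairing_ιMulti (u : Fin p → M) (v : Fin q → M) :
    pairing hn (ιMulti R p u) (ιMulti R q v) = ιMulti R n (Fin.append u v ∘ Fin.cast hn.symm) := by
  subst hn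
  exact wedge_ιMulti p q u v

/-- On a basis the pairing is a signed permutation. -/
theorem pairing_basis (e : Fin n → M) (S : Set.powersetCard (Fin n) p) (T : Set.powersetCard (Fin n) q) :
    (T.1 ≠ S.1ᶜ → pairing hn (ιMulti_family R p e S) (ιMulti_family R q e T) = 0) ∧
    (T.1 = S.1ᶜ → ∃ c : ℤˣ, pairing hn (ιMulti_family R p e S) (ιMulti_family R q e T) =
      c • ιMulti R n e) := by
  classical
  let a : Fin n → Fin n := Fin.append (Set.powersetCard.ofFinEmbEquiv.symm S)
    (Set.powersetCard.ofFinEmbEquiv.symm T) ∘ Fin.cast hn.symm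
  have hval : pairing hn (ιMulti_family R p e S) (ιMulti_family R q e T) = ιMulti R n (e ∘ a) := by
    show pairing hn (ιMulti R p _) (ιMulti R q _) = _
    rw [pairing_ιMulti]
    congr 1
    funext i
    show Fin.append _ _ (Fin.cast hn.symm i) = e (Fin.append _ _ (Fin.cast hn.symm i))
    induction Fin.cast hn.symm i using Fin.addCases with
    | left i => simp only [Fin.append_left]; rfl
    | right i => simp only [Fin.append_right]; rfl
  have hS : ∀ j, j ∈ S.1 ↔ ∃ i, Set.powersetCard.ofFinEmbEquiv.symm S i = j := fun j =>
    (Set.powersetCard.mem_range_ofFinEmbEquiv_symm_iff_mem S j).symm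
  have hT : ∀ j, j ∈ T.1 ↔ ∃ i, Set.powersetCard.ofFinEmbEquiv.symm T i = j := fun j =>
    (Set.powersetCard.mem_range_ofFinEmbEquiv_symm_iff_mem T j).symm
  have hinj : Function.Injective a ↔ T.1 = S.1ᶜ := by
    constructor
    · intro h
      have hdisj : Disjoint S.1 T.1 := Finset.disjoint_left.2 fun j hjS hjT => by
        obtain ⟨i, hi⟩ := (hS j).1 hjS
        obtain ⟨i', hi'⟩ := (hT j).1 hjT
        have := h (a₁ := Fin.cast hn (Fin.castAdd q i)) (a₂ := Fin.cast hn (Fin.natAdd p i'))
          (by simp [a, hi, hi'])
        have h2 := congrArg Fin.val this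
        simp only [Fin.val_cast, Fin.val_castAdd, Fin.val_natAdd] at h2
        have := i.isLt
        omega
      refine Finset.eq_of_subset_of_card_le
        (fun j hj => Finset.mem_compl.2 (Finset.disjoint_right.1 hdisj hj)) (le_of_eq ?_)
      rw [Finset.card_compl, Fintype.card_fin, S.2, T.2]
      omega
    · intro h i j hij
      refine Fin.cast_injective hn.symm ?_
      have key : ∀ x y : Fin (p + q), Fin.append (Set.powersetCard.ofFinEmbEquiv.symm S)
          (Set.powersetCard.ofFinEmbEquiv.symm T) x = Fin.append (Set.powersetCard.ofFinEmbEquiv.symm S)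
          (Set.powersetCard.ofFinEmbEquiv.symm T) y → x = y := by
        have hd : ∀ i i', Set.powersetCard.ofFinEmbEquiv.symm S i ≠
            Set.powersetCard.ofFinEmbEquiv.symm T i' := fun i i' h' => by
          have h1 := (hS _).2 ⟨i, rfl⟩
          have h2 := (hT _).2 ⟨i', rfl⟩
          rw [← h'] at h2
          rw [h] at h2
          exact Finset.mem_compl.1 h2 h1
        intro x y
        induction x using Fin.addCases with
        | left i =>
          induction y using Fin.addCases with
          | left i' =>
            simp only [Fin.append_left]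
            exact fun h' => congrArg _ ((Set.powersetCard.ofFinEmbEquiv.symm S).injective h')
          | right i' =>
            simp only [Fin.append_left, Fin.append_right]
            exact fun h' => absurd h' (hd i i')
        | right i =>
          induction y using Fin.addCases with
          | left i' =>
            simp only [Fin.append_left, Fin.append_right]
            exact fun h' => absurd h'.symm (hd i' i)
          | right i' =>
            simp only [Fin.append_right]
            exact fun h' => congrArg _ ((Set.powersetCard.ofFinEmbEquiv.symm T).injective h')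
      exact key _ _ hij
  refine ⟨fun h => hval.trans ?_, fun h => ?_⟩
  · exact (ιMulti R n).map_eq_zero_of_not_injective _ fun h' => h (hinj.1 h'.of_comp)
  · let σ : Equiv.Perm (Fin n) := Equiv.ofBijective a ((hinj.2 h).bijective_of_finite)
    exact ⟨Equiv.Perm.sign σ, hval.trans ((ιMulti R n).map_perm e σ)⟩

end Groth.Agent.Lib.FundLocal.WedgeAlg
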